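import Groth.Agent.StkBase.Descent
import Groth.Agent.StkBase.StackMk

/-!
# Morphisms glue when all fibre products of two objects are stacks
-/

set_option autoImplicit false
set_option backward.isDefEq.respectTransparency false
set_option backward.isDefEq.respectTransparency.types false

universe v₂ u₂ v u

open CategoryTheory CategoryTheory.Limits
open Groth.StkBase

namespace Groth.StkFppf

variable {C : Type u} [Category.{v} C] {𝒳 : BasedCategory.{v₂, u₂} C} {U : C} {R : Sieve U}

/-- If the categories of isomorphisms between any two objects over `U` are stacks for `R`, morphisms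
glue along `R`. -/
theorem isPrestackFor_of_isStackFor_fp (hX : FibCat.IsFibGrpd 𝒳.p)
    (hU : Stk.IsStackFor R (FibCat.overCat U))
    (hfp : ∀ G G' : FibCat.overCat U ⥤ᵇ 𝒳, Stk.IsStackFor R (FibCat.fp G G')) :
    Stk.IsPrestackFor R 𝒳 := by
  have : (Stk.resSieve R (FibCat.overCat U)).IsEquivalence := hU
  have hvert : ∀ {a : (FibCat.overCat U).obj} {φ : a ⟶ a}, IsVert (FibCat.overCat U).p φ → φ = 𝟙 a :=
    fun h => IsVert.eq_id_of_thin (isFibSetoid_overCat U) h
  refine ⟨⟨fun {G G'} γ => ?_⟩, ⟨fun {G G'} α β h => ?_⟩⟩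
  · haveI := natTrans_isIso hX γ
    haveI : (Stk.resSieve R (FibCat.fp G G')).IsEquivalence := hfp G G'
    let H : Stk.sieveCat R ⥤ᵇ FibCat.fp G G' :=
      FibCat.fpLift (Stk.sieveIncl R) (Stk.sieveIncl R) (asIso γ)
    let L := (Stk.resSieve R (FibCat.fp G G')).objPreimage H
    let i : (Stk.resSieve R (FibCat.fp G G')).obj L ≅ H :=
      (Stk.resSieve R (FibCat.fp G G')).objObjPreimageIso H
    let f₁ : (Stk.resSieve R (FibCat.overCat U)).obj (BasedFunctor.comp L (FibCat.fpFst G G')) ≅
        (Stk.resSieve R (FibCat.overCat U)).obj (BasedFunctor.id _) :=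
      whiskerRightIso i (FibCat.fpFst G G')
    let f₂ : (Stk.resSieve R (FibCat.overCat U)).obj (BasedFunctor.comp L (FibCat.fpSnd G G')) ≅
        (Stk.resSieve R (FibCat.overCat U)).obj (BasedFunctor.id _) :=
      whiskerRightIso i (FibCat.fpSnd G G')
    let e₁ := (Stk.resSieve R (FibCat.overCat U)).preimageIso f₁
    let e₂ := (Stk.resSieve R (FibCat.overCat U)).preimageIso f₂
    let α : G ⟶ G' := (whiskerRightIso e₁ G).inv ≫ (whiskerLeftIso L (FibCat.fpIso G G')).hom ≫
      (whiskerRightIso e₂ G').hom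
    refine ⟨α, natTrans_ext fun x => ?_⟩
    have h₁ : (isoApp e₁ ((Stk.sieveIncl R).obj x)).hom = (isoApp i x).hom.hom.fst :=
      congrArg (fun t => t.toNatTrans.app x)
        ((Stk.resSieve R (FibCat.overCat U)).map_preimage f₁.hom)
    have h₂ : (isoApp e₂ ((Stk.sieveIncl R).obj x)).hom = (isoApp i x).hom.hom.snd :=
      congrArg (fun t => t.toNatTrans.app x)
        ((Stk.resSieve R (FibCat.overCat U)).map_preimage f₂.hom)
    show G.map (isoApp e₁ ((Stk.sieveIncl R).obj x)).inv ≫
      (L.obj ((Stk.sieveIncl R).obj x)).obj.iso.hom ≫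
        G'.map (isoApp e₂ ((Stk.sieveIncl R).obj x)).hom = γ.toNatTrans.app x
    rw [h₂]
    have hw : G.map (isoApp i x).hom.hom.fst ≫ γ.toNatTrans.app x =
        (L.obj ((Stk.sieveIncl R).obj x)).obj.iso.hom ≫ G'.map (isoApp i x).hom.hom.snd :=
      (isoApp i x).hom.hom.w
    rw [← hw, ← h₁]
    refine (Category.assoc _ _ _).symm.trans ?_
    refine Eq.trans (congrArg (· ≫ γ.toNatTrans.app x)
      ((G.toFunctor.map_comp _ _).symm.trans ((congrArg G.map (Iso.inv_hom_id _)).trans
        (G.toFunctor.map_id _)))) (Category.id_comp _)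
  · haveI := natTrans_isIso hX α
    haveI := natTrans_isIso hX β
    haveI : (Stk.resSieve R (FibCat.fp G G')).IsEquivalence := hfp G G'
    let La : FibCat.overCat U ⥤ᵇ FibCat.fp G G' :=
      FibCat.fpLift (BasedFunctor.id _) (BasedFunctor.id _) (asIso α)
    let Lb : FibCat.overCat U ⥤ᵇ FibCat.fp G G' :=
      FibCat.fpLift (BasedFunctor.id _) (BasedFunctor.id _) (asIso β)
    have hx : ∀ x : (Stk.sieveCat R).obj, α.toNatTrans.app ((Stk.sieveIncl R).obj x) =
        β.toNatTrans.app ((Stk.sieveIncl R).obj x) := fun x =>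
      congrArg (fun t => t.toNatTrans.app x) h
    let j₀ : (Stk.resSieve R (FibCat.fp G G')).obj La ≅ (Stk.resSieve R (FibCat.fp G G')).obj Lb :=
      fpIsoMk (Iso.refl _) (Iso.refl _) fun x => by
        change G.map (𝟙 _) ≫ β.toNatTrans.app ((Stk.sieveIncl R).obj x) =
          α.toNatTrans.app ((Stk.sieveIncl R).obj x) ≫ G'.map (𝟙 _)
        erw [G.toFunctor.map_id, G'.toFunctor.map_id, Category.id_comp, Category.comp_id]
        exact (hx x).symm
    let j := (Stk.resSieve R (FibCat.fp G G')).preimageIso j₀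
    refine natTrans_ext fun g => ?_
    have hw := (isoApp j g).hom.hom.w
    have h₁ : (isoApp j g).hom.hom.fst = 𝟙 g :=
      hvert (isVert_map (F := FibCat.fpFst G G') (isVert_isoApp j g))
    have h₂ : (isoApp j g).hom.hom.snd = 𝟙 g :=
      hvert (isVert_map (F := FibCat.fpSnd G G') (isVert_isoApp j g))
    rw [h₁, h₂] at hw
    erw [G.toFunctor.map_id, G'.toFunctor.map_id, Category.id_comp, Category.comp_id] at hw
    exact hw.symm

end Groth.StkFppf
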