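import Groth.Agent.StkFppf.Effective
import Groth.Agent.StkFppf.IsomSheaf
import Groth.Agent.AlgStBasic.DiagOfAtlas
import Groth.Agent.AlgSp2.InfFamily
import Groth.Agent.StkBase.SieveRefine

/-!
# Algebraic stacks for the etale topology are algebraic stacks for the fppf topology
-/

set_option autoImplicit false
set_option backward.isDefEq.respectTransparency false
set_option backward.isDefEq.respectTransparency.types false

universe u

open CategoryTheory CategoryTheory.Limits AlgebraicGeometry Opposite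
open Groth.StkBase Groth.AlgSpBasic Groth.AlgStBasic

noncomputable section

namespace Groth.StkFppf

variable {S : Scheme.{u}} {𝒳 : AlgSt.Cat S}

/-- A representable diagonal makes morphisms glue for the fppf topology. -/
theorem isPrestack_fppf_of_diag (hX : FibCat.IsFibGrpd 𝒳.p)
    (hd : AlgSt.RepByAlgSp1 (FibCat.diag (FibCat.toSelf 𝒳))) : Stk.IsPrestack (AlgSp.J S) 𝒳 :=
  ⟨hX, fun U R hR => isPrestackFor_of_isStackFor_fp hX
    ((isStack_of_repByAlgSp (repByAlgSp_overCat U)).2 R hR)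
    fun G G' => (isStack_of_repByAlgSp ((repByAlgSp1_diag_iff hX).1 hd U G' U G)).2 R hR⟩

theorem jet_le (S : Scheme.{u}) : Groth.AlgSpBoot.Jet S ≤ AlgSp.J S := by
  intro X R hR
  rw [GrothendieckTopology.mem_over_iff] at hR ⊢
  exact Precoverage.toGrothendieck_mono Groth.AlgSpBoot.etalePrecoverage_le_fppfPrecoverage _ hR

variable {U T : Over S} {R : Sieve T} {H : Stk.sieveCat R ⥤ᵇ 𝒳} {x : FibCat.overCat U ⥤ᵇ 𝒳}

/-- A presentation gives an object receiving the datum. -/
theorem nonempty_cone_of_sec {W : Over S} (g : W ⟶ T) (s : Sec H x W) (hs : s.a = g) :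
    Nonempty (Cone (BasedFunctor.comp (sievePush (Q := R.pullback g) g fun _ _ hk => hk) H)) := by
  subst hs
  refine ⟨{
    pt := x.obj (ov s.u)
    p_pt := x.w_obj _
    leg := fun w => s.α w.obj.hom (w.obj.hom ≫ s.a) (w.obj.hom ≫ s.u) w.property rfl rfl ≫
      x.map (ovHom w.obj.hom rfl)
    map_leg := fun w => ?_
    nat := fun w w' a => ?_ }⟩
  · rw [Functor.map_comp, s.map_α, map_map]
    simp [sievePush, overCat_map]
    erw [Category.id_comp]
  · have hwa : a.hom.left ≫ w'.obj.hom = w.obj.hom := Over.w a.hom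
    have h1 := s.nat a.hom.left w'.obj.hom (w'.obj.hom ≫ s.a) (w'.obj.hom ≫ s.u) w'.property rfl rfl
      w.obj.hom (w.obj.hom ≫ s.a) (w.obj.hom ≫ s.u) w.property rfl rfl hwa
      (by rw [← Category.assoc, hwa]) (by rw [← Category.assoc, hwa])
    refine (Category.assoc _ _ _).symm.trans
      ((congrArg (· ≫ x.map (ovHom w'.obj.hom rfl)) h1).trans ?_)
    rw [Category.assoc, ← Functor.map_comp]
    exact congrArg (_ ≫ x.map ·) (Over.OverMorphism.ext hwa)

/-- Descent data are effective on an etale covering. -/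
theorem exists_etale_cones (hst : Stk.IsStack (Groth.AlgSpBoot.Jet S) 𝒳)
    (hp : Stk.IsPrestack (AlgSp.J S) 𝒳)
    (hx : AlgSt.RepByAlgSpWith (AlgSp.LocP @Smooth) x)
    (hxs : AlgSt.RepByAlgSpWith AlgSp.IsSurjectiveMor x) (hR : R ∈ AlgSp.J S T) :
    ∃ R' ∈ Groth.AlgSpBoot.Jet S T, ∀ ⦃W : Over S⦄ (g : W ⟶ T), R' g →
      Nonempty (Cone (BasedFunctor.comp (sievePush (Q := R.pullback g) g fun _ _ hk => hk) H)) := by
  obtain ⟨C, hC, hCR⟩ := Groth.AlgSpBasic.exists_cover_of_mem hR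
  obtain ⟨ι, Y, f, rfl⟩ := C.exists_eq_ofArrows
  change Presieve.ofArrows Y f ∈ Scheme.precoverage _ _ at hC
  rw [Scheme.ofArrows_mem_precoverage_iff] at hC
  choose i hi using hC.1
  let Vf : ↥T.left → Over S := fun t => Over.mk (f (i t) ≫ T.hom)
  let cf : ∀ t, Vf t ⟶ T := fun t => Over.homMk (f (i t))
  let g := Groth.AlgSp2.sigmaOut cf
  have hflat : Flat g.left ∧ LocallyOfFinitePresentation g.left := by
    have e : ∀ k, (sigmaOpenCover fun k => (Vf k).left).f k ≫ g.left = (cf k).left := fun k =>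
      congrArg CommaMorphism.left (Groth.AlgSp2.sigmaIncl_out cf k)
    constructor
    · refine (IsZariskiLocalAtSource.iff_of_openCover (P := @Flat)
        (sigmaOpenCover fun k => (Vf k).left)).2 fun k => ?_
      rw [e k]
      exact (hC.2 (i k)).1
    · refine (IsZariskiLocalAtSource.iff_of_openCover (P := @LocallyOfFinitePresentation)
        (sigmaOpenCover fun k => (Vf k).left)).2 fun k => ?_
      rw [e k]
      exact (hC.2 (i k)).2
  obtain ⟨_, _⟩ := hflat
  have : Surjective g.left := Groth.AlgSp2.surjective_sigmaOut cf fun t => ⟨t, hi t⟩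
  let Z := Sieve.ofArrows Vf (Groth.AlgSp2.sigmaIncl Vf)
  have hZ : Z ∈ Groth.AlgSpBoot.Jet S (Groth.AlgSp2.sigmaObj Vf) := by
    refine Groth.AlgSpBoot.mem_Jet_of_forall fun v => ?_
    obtain ⟨t, y, hy⟩ := (sigmaOpenCover fun k => (Vf k).left).exists_eq v
    exact ⟨Vf t, Groth.AlgSp2.sigmaIncl Vf t,
      (inferInstance : Etale ((sigmaOpenCover fun k => (Vf k).left).f t)), ⟨y, hy⟩,
      Sieve.ofArrows_mk Vf (Groth.AlgSp2.sigmaIncl Vf) t⟩
  have hle : Z ≤ R.pullback g := by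
    refine (Sieve.generate_le_iff _ _).2 ?_
    rintro _ _ ⟨t⟩
    show R (Groth.AlgSp2.sigmaIncl Vf t ≫ g)
    rw [Groth.AlgSp2.sigmaIncl_out cf t]
    exact hCR _ ⟨i t⟩
  have hE : Stk.IsStackFor (R.pullback g) 𝒳 := isStackFor_of_refine hst.1 hle (hst.2 Z hZ)
    fun Y' k _ => hp.2 _ ((AlgSp.J S).pullback_stable k (jet_le S _ hZ))
  have : (Stk.resSieve (R.pullback g) 𝒳).IsEquivalence := hE
  obtain ⟨G, ⟨β⟩⟩ := Functor.EssSurj.mem_essImage (F := Stk.resSieve (R.pullback g) 𝒳)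
    (BasedFunctor.comp (sievePush (Q := R.pullback g) g fun _ _ hk => hk) H)
  obtain ⟨W, s, _, _⟩ := exists_smooth_presentation hp β hR hx hxs
  have hsec : ∀ t : ↥T.left, ∃ (W' : Over S) (h : W' ⟶ W) (w : ↥W'.left),
      Etale (h ≫ s.a).left ∧ (h ≫ s.a).left w = t := fun t => by
    obtain ⟨z, rfl⟩ := s.a.left.surjective t
    obtain ⟨W', h, w, he, hw⟩ := Groth.SmoothSlice.exists_etale_section (f := s.a.left) z
    exact ⟨Over.mk (h ≫ W.hom), Over.homMk h, w, he, hw⟩
  choose W' h w he hw using hsec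
  refine ⟨Sieve.ofArrows W' fun t => h t ≫ s.a, Groth.AlgSpBoot.mem_Jet_of_forall fun t =>
    ⟨W' t, h t ≫ s.a, he t, ⟨w t, hw t⟩, Sieve.ofArrows_mk W' (fun t => h t ≫ s.a) t⟩, ?_⟩
  rintro W'' k ⟨_, a, _, ⟨t⟩, rfl⟩
  exact nonempty_cone_of_sec _ (Sec.restrict (a ≫ h t) s) (Category.assoc _ _ _)

/-- A stack for the etale topology with representable diagonal and a smooth atlas is a stack for the
fppf topology. -/
theorem isStack_fppf_of_etale (hst : Stk.IsStack (Groth.AlgSpBoot.Jet S) 𝒳)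
    (hd : AlgSt.RepByAlgSp1 (FibCat.diag (FibCat.toSelf 𝒳)))
    (hat : AlgSt.HasAtlas (AlgSp.LocP @Smooth) 𝒳) : Stk.IsStack (AlgSp.J S) 𝒳 := by
  obtain ⟨U, x, hx, hxs⟩ := hat
  have hp := isPrestack_fppf_of_diag hst.1 hd
  exact ⟨hst.1, fun T R hR => isStackFor_of_locally_effective (jet_le S) hp hst hR
    fun H => exists_etale_cones hst hp hx hxs hR⟩

/-- An algebraic stack for the etale topology is an algebraic stack for the fppf topology. -/
theorem isAlgStack_fppf_of_etale (h : AlgSt.IsAlgStack Scheme.etalePrecoverage 𝒳) :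
    AlgSt.IsAlgStack Scheme.fppfPrecoverage 𝒳 :=
  ⟨isStack_fppf_of_etale h.isStack h.diag h.atlas, h.diag, h.atlas⟩

end Groth.StkFppf
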