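import Groth.Agent.StkFppf.SecSpace
import Groth.Agent.StkFppf.IsomSheaf
import Groth.Agent.FppfBoot.Bootstrap
import Groth.Agent.AlgStBasic.Atlas
import Groth.Agent.AlgStBasic.SetoidSpace
import Groth.Agent.AlgSpBasic.LocPInst
import Groth.Agent.SmoothSlice.Sections
import Groth.Agent.AlgSpBoot.EtaleTop
import Mathlib.AlgebraicGeometry.Morphisms.LocalFlatDescent

/-!
# Descent data are effective etale locally
-/

set_option autoImplicit false
set_option backward.isDefEq.respectTransparency false
set_option backward.isDefEq.respectTransparency.types false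

universe u

open CategoryTheory CategoryTheory.Limits AlgebraicGeometry Opposite
open Groth.StkBase Groth.AlgSpBasic Groth.AlgStBasic

noncomputable section

namespace Groth.StkFppf

variable {S : Scheme.{u}} {𝒳 : AlgSt.Cat S} {U T V : Over S} {R : Sieve T}
  (hp : Stk.IsPrestack (AlgSp.J S) 𝒳) {H : Stk.sieveCat R ⥤ᵇ 𝒳} {x : FibCat.overCat U ⥤ᵇ 𝒳}
  {g : V ⟶ T} {G : FibCat.overCat V ⥤ᵇ 𝒳}
  (β : (Stk.resSieve (R.pullback g) 𝒳).obj G ≅
    BasedFunctor.comp (sievePush (Q := R.pullback g) g fun _ _ hk => hk) H)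

include hp β in
/-- The base change of the sheaf of presentations to the cover is a space over the cover with the
properties of the atlas. -/
theorem secPullback_props (hR : R ∈ AlgSp.J S T)
    (hx : AlgSt.RepByAlgSpWith (AlgSp.LocP @Smooth) x)
    (hxs : AlgSt.RepByAlgSpWith AlgSp.IsSurjectiveMor x) :
    AlgSp.IsAlgSpace (secPullback hp H x g) ∧
      AlgSp.LocP @Smooth (pullback.snd (secToT hp H x) ((AlgSp.yon S).map g)) ∧
      AlgSp.IsSurjectiveMor (pullback.snd (secToT hp H x) ((AlgSp.yon S).map g)) := by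
  obtain ⟨F, e, he⟩ := repWith_repByAlgSp1 hx V G
  have h₁ := prop_of_repWith_fp stableBaseChange_locP hx G F e he
  have h₂ := prop_of_repWith_fp stableBaseChange_surjective hxs G F e he
  have hΦ := isEquivOver_comp he
    (isEquivOver_fpToSec hp β (fun a => (AlgSp.J S).pullback_stable a hR) (x := x))
  let φ : F.obj ⟶ secPullback hp H x g :=
    ObjectProperty.homMk (pshMapOf (BasedFunctor.comp e (fpToSec hp β)))
  have : IsIso ((sheafToPresheaf (AlgSp.J S) (Type (u + 1))).map φ) := isIso_pshMapOf hΦ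
  have : IsIso φ := isIso_of_fully_faithful (sheafToPresheaf (AlgSp.J S) (Type (u + 1))) φ
  let s := pullback.snd (secToT hp H x) ((AlgSp.yon S).map g)
  let c : BasedFunctor.comp (FibCat.fpFst G x) (AlgSt.ofOverCat V) ≅
      BasedFunctor.comp (fpToSec hp β) (Stk.ofPshMap s.hom) := by
    have hs : ∀ o : (FibCat.fp G x).obj,
        s.hom.app _ (yEquiv ((tripOf o).toPullback hp β)) = (⟨o.obj.fst.hom⟩ : ULift _) := fun o => by
      refine ((AlgSp.J S).uliftYonedaEquiv_comp _ s).symm.trans ?_
      rw [Trip.toPullback_snd]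
      exact yEquiv_map _
    refine isoMk (fun o =>
      { hom := eltHom (𝟙 _) (((map_op_id _ _ rfl _)).trans (hs o))
        inv := eltHom (𝟙 _) (((map_op_id _ _ rfl _)).trans (hs o).symm)
        hom_inv_id := elt_hom_ext_p (Category.id_comp _)
        inv_hom_id := elt_hom_ext_p (Category.id_comp _) }) (fun f => elt_hom_ext_p ?_) fun o => ?_
    · exact (Category.comp_id _).trans (Category.id_comp _).symm
    · exact ⟨rfl, rfl⟩
  have key : φ ≫ s = AlgSt.spMapOfOver (BasedFunctor.comp e (FibCat.fpFst G x)) := by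
    apply ObjectProperty.hom_ext
    rw [spMapOfOver_hom_eq]
    show pshMapOf (BasedFunctor.comp e (fpToSec hp β)) ≫ s.hom = _
    rw [← pshMapOf_ofPshMap s.hom, ← pshMapOf_comp]
    exact pshMapOf_eq_of_iso (whiskerLeftIso e c.symm)
  rw [← key] at h₁ h₂
  exact ⟨F.property.of_iso (asIso φ), (MorphismProperty.cancel_left_of_respectsIso _ φ s).1 h₁,
    (MorphismProperty.cancel_left_of_respectsIso _ φ s).1 h₂⟩

include hp β in
/-- A descent datum which becomes effective on an fppf cover has presentations on a smooth cover. -/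
theorem exists_smooth_presentation (hR : R ∈ AlgSp.J S T)
    [Surjective g.left] [Flat g.left] [LocallyOfFinitePresentation g.left]
    (hx : AlgSt.RepByAlgSpWith (AlgSp.LocP @Smooth) x)
    (hxs : AlgSt.RepByAlgSpWith AlgSp.IsSurjectiveMor x) :
    ∃ (W : Over S) (s : Sec H x W), Smooth s.a.left ∧ Surjective s.a.left := by
  obtain ⟨hQ, hQs, hQsurj⟩ := secPullback_props hp β hR hx hxs
  let π := secToT hp H x
  let p := pullback.fst π ((AlgSp.yon S).map g)
  have hp' : AlgSp.RepWith (@Flat ⊓ @LocallyOfFinitePresentation ⊓ @Surjective) p :=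
    repWith_of_isPullback (IsPullback.of_hasPullback π ((AlgSp.yon S).map g)).flip
      ((AlgSp.repWith_yon_map_iff _ _).2 ⟨⟨inferInstance, inferInstance⟩, inferInstance⟩)
  let X : AlgSp.Space S := ⟨secPullback hp H x g, hQ⟩
  have hP : AlgSp.IsAlgSpace (secSheaf hp H x) :=
    Groth.FppfBoot.isAlgSpace_of_fppf_cover (X := X) (p := p)
      (repBySpWith_of_repWith hp' fun _ _ snd h =>
        ⟨⟨surjective_map_of_repWith (repWith_mono inf_le_right h),
          locP_of_repWith (repWith_mono (inf_le_left.trans inf_le_left) h)⟩,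
          locP_of_repWith (repWith_mono (inf_le_left.trans inf_le_right) h)⟩)
  obtain ⟨W, r, hr, hrs⟩ := hP.atlas
  obtain ⟨W', q, r', sq⟩ := hp'.rep r
  have sq' : IsPullback r' ((AlgSp.yon S).map q) p r := sq
  have hr' := repWith_of_isPullback sq'.flip hr
  have hrs' := repWith_of_isPullback sq'.flip hrs
  obtain ⟨d, hd⟩ := (AlgSp.yon S).map_surjective (r' ≫ pullback.snd π ((AlgSp.yon S).map g))
  let s : Sec H x W := yEquiv r
  have hds : AlgSp.LocP @Smooth ((AlgSp.yon S).map d) := by
    rw [hd]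
    exact locP_comp (AlgSp.IsAlgSpace.yon_obj W') hQ (AlgSp.IsAlgSpace.yon_obj V)
      (locP_of_repWith (repWith_mono (fun _ _ f (hf : Etale f) => (inferInstance : Smooth f)) hr')) hQs
  have hdl : Smooth d.left :=
    hds (𝟙 _) (𝟙 _) d (AlgSp.repWith_id _ W') (AlgSp.repWith_id _ V) (by simp)
  have hdsurj : Surjective d.left := ⟨fun v => by
    obtain ⟨z, hz⟩ := hQsurj (AlgSp.Points.schemeHomeo V v)
    obtain ⟨w, hw⟩ := surjective_map_of_repWith hrs' z
    obtain ⟨t, rfl⟩ := (AlgSp.Points.schemeHomeo W').surjective w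
    refine ⟨t, (AlgSp.Points.schemeHomeo V).injective ?_⟩
    rw [← hz, ← hw, ← AlgSp.Points.map_comp, ← hd]
    exact (AlgSp.Points.map_yon_map_apply _ _).symm⟩
  have sqT : IsPullback ((AlgSp.yon S).map q) ((AlgSp.yon S).map d) ((AlgSp.yon S).map s.a)
      ((AlgSp.yon S).map g) := by
    rw [hd, ← map_secToT_eq hp H x r]
    exact sq'.flip.paste_vert (IsPullback.of_hasPullback π ((AlgSp.yon S).map g))
  have sqS := (isPullback_left (isPullback_of_yon sqT)).flip
  exact ⟨W, s,
    MorphismProperty.of_isPullback_of_descendsAlong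
      (Q := @Surjective ⊓ @Flat ⊓ @LocallyOfFinitePresentation)
      sqS ⟨⟨inferInstance, inferInstance⟩, inferInstance⟩ hdl,
    MorphismProperty.of_isPullback_of_descendsAlong
      (Q := @Surjective ⊓ @Flat ⊓ @LocallyOfFinitePresentation)
      sqS ⟨⟨inferInstance, inferInstance⟩, inferInstance⟩ hdsurj⟩

end Groth.StkFppf
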