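import Groth.Agent.StkFppf.StackFine
import Groth.Agent.AlgStBasic.RepStack
import Groth.Prelude.Def_AlgSt2

/-!
# The sheaf of local presentations of a descent datum by an atlas
-/

set_option autoImplicit false
set_option backward.isDefEq.respectTransparency false
set_option backward.isDefEq.respectTransparency.types false

universe u

open CategoryTheory CategoryTheory.Limits AlgebraicGeometry Opposite
open Groth.StkBase

noncomputable section

namespace Groth.StkFppf

variable {S : Scheme.{u}} {𝒳 : AlgSt.Cat S} {U T : Over S}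

/-- An object of a slice. -/
abbrev ov {U' W : Over S} (v : W ⟶ U') : (FibCat.overCat U').obj := Over.mk v

/-- A morphism of a slice. -/
abbrev ovHom {U' W W' : Over S} (j : W' ⟶ W) {v : W ⟶ U'} {v' : W' ⟶ U'} (h : j ≫ v = v') :
    ov v' ⟶ ov v :=
  Over.homMk j h

variable {R : Sieve T}

/-- An object of a sieve. -/
abbrev sv {W : Over S} (b : W ⟶ T) (hb : R b) : (Stk.sieveCat R).obj := ⟨Over.mk b, hb⟩

/-- A morphism of a sieve. -/
abbrev svHom {W W' : Over S} (j : W' ⟶ W) {b : W ⟶ T} {hb : R b} {b' : W' ⟶ T} {hb' : R b'}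
    (h : j ≫ b = b') : sv b' hb' ⟶ sv b hb :=
  ObjectProperty.homMk (Over.homMk j h)

/-- The restriction of a member of a sieve to a sieve on its source. -/
abbrev svPush {W : Over S} (b : W ⟶ T) (hb : R b) (Q : Sieve W) :
    Stk.sieveCat Q ⥤ᵇ Stk.sieveCat R :=
  sievePush b fun _ k _ => R.downward_closed hb k

variable (hp : Stk.IsPrestack (AlgSp.J S) 𝒳) (H : Stk.sieveCat R ⥤ᵇ 𝒳)

include hp in
/-- Arrows out of a value of the datum are determined locally. -/
theorem datum_hom_ext {W : Over S} {b : W ⟶ T} {hb : R b} {c : 𝒳.obj}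
    {V : Over S} (hc : 𝒳.p.obj c = V) (f : W ⟶ V) {Q : Sieve W} (hQ : Q ∈ AlgSp.J S W)
    {χ χ' : H.obj (sv b hb) ⟶ c}
    (h₁ : 𝒳.p.map χ = eqToHom (H.w_obj (sv b hb)) ≫ f ≫ eqToHom hc.symm)
    (h₂ : 𝒳.p.map χ' = eqToHom (H.w_obj (sv b hb)) ≫ f ≫ eqToHom hc.symm)
    (h : ∀ ⦃W' : Over S⦄ (w : W' ⟶ W), Q w → ∀ (b' : W' ⟶ T) (hb' : R b') (e : w ≫ b = b'),
      H.map (svHom (hb := hb) (hb' := hb') w e) ≫ χ =
        H.map (svHom (hb := hb) (hb' := hb') w e) ≫ χ') : χ = χ' := by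
  let B : Cone (BasedFunctor.comp (svPush b hb Q) H) :=
    { pt := H.obj (sv b hb)
      p_pt := H.w_obj _
      leg := fun w => H.map (svHom w.obj.hom rfl)
      map_leg := fun w => map_map H _
      nat := fun w w' g => (H.toFunctor.map_comp _ _).symm.trans (congrArg H.map
        (ObjectProperty.hom_ext _ (Over.OverMorphism.ext (Over.w g.hom)))) }
  refine (B.existsUnique_desc hp.1 (hp.2 _ hQ) hc f (fun w => H.map (svHom w.obj.hom rfl) ≫ χ)
    (fun w => ?_) fun w w' g => ?_).unique ⟨h₁, fun _ => rfl⟩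
    ⟨h₂, fun w => (h w.obj.hom w.property _ _ rfl).symm⟩
  · rw [Functor.map_comp, map_map, h₁]
    simp [svPush, sievePush, sieveCat_map_left]
  · exact (Category.assoc _ _ _).symm.trans (congrArg (· ≫ χ) (B.nat g))

variable (x : FibCat.overCat U ⥤ᵇ 𝒳)

/-- A presentation of the datum over `W`: a map to `T`, a map to the atlas and isomorphisms of the
datum with the object of the atlas on the members of the covering sieve. -/
structure Sec (W : Over S) where
  /-- the map to the base of the datum -/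
  a : W ⟶ T
  /-- the map to the atlas -/
  u : W ⟶ U
  /-- the isomorphisms -/
  α : ∀ ⦃W' : Over S⦄ (k : W' ⟶ W) (b : W' ⟶ T) (v : W' ⟶ U) (hb : R b), k ≫ a = b → k ≫ u = v →
    (H.obj (sv b hb) ⟶ x.obj (ov v))
  map_α : ∀ ⦃W' : Over S⦄ (k : W' ⟶ W) (b : W' ⟶ T) (v : W' ⟶ U) (hb : R b) (e : k ≫ a = b)
    (e' : k ≫ u = v),
    𝒳.p.map (α k b v hb e e') = eqToHom (H.w_obj _) ≫ 𝟙 W' ≫ eqToHom (x.w_obj (ov v)).symm
  nat : ∀ ⦃W' W'' : Over S⦄ (j : W'' ⟶ W') (k : W' ⟶ W) (b : W' ⟶ T) (v : W' ⟶ U) (hb : R b)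
    (e : k ≫ a = b) (e' : k ≫ u = v) (k' : W'' ⟶ W) (b' : W'' ⟶ T) (v' : W'' ⟶ U) (hb' : R b')
    (f : k' ≫ a = b') (f' : k' ≫ u = v') (_ : j ≫ k = k') (hjb : j ≫ b = b') (hjv : j ≫ v = v'),
    H.map (svHom (hb := hb) (hb' := hb') j hjb) ≫ α k b v hb e e' =
      α k' b' v' hb' f f' ≫ x.map (ovHom j hjv)

variable {H x}

theorem Sec.ext' {W : Over S} {s t : Sec H x W} (h₁ : s.a = t.a) (h₂ : s.u = t.u)
    (h₃ : ∀ ⦃W' : Over S⦄ (k : W' ⟶ W) (b : W' ⟶ T) (v : W' ⟶ U) (hb : R b) (e : k ≫ s.a = b)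
      (e' : k ≫ s.u = v) (f : k ≫ t.a = b) (f' : k ≫ t.u = v),
      s.α k b v hb e e' = t.α k b v hb f f') : s = t := by
  obtain ⟨a, v₀, α, _, _⟩ := s
  obtain ⟨a', v₀', α', _, _⟩ := t
  cases h₁
  cases h₂
  have : α = α' := by
    funext W' k b v hb e e'
    exact h₃ k b v hb e e' e e'
  cases this
  rfl

theorem Sec.α_congr {W : Over S} (s : Sec H x W) {W' : Over S} {k k' : W' ⟶ W} (h : k = k')
    {b : W' ⟶ T} {v : W' ⟶ U} (hb : R b) (e : k ≫ s.a = b) (e' : k ≫ s.u = v) (f : k' ≫ s.a = b)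
    (f' : k' ≫ s.u = v) : s.α k b v hb e e' = s.α k' b v hb f f' := by
  subst h
  rfl

/-- Restriction of a presentation. -/
def Sec.restrict {W W₁ : Over S} (h : W₁ ⟶ W) (s : Sec H x W) : Sec H x W₁ where
  a := h ≫ s.a
  u := h ≫ s.u
  α _ k b v hb e e' := s.α (k ≫ h) b v hb (by rwa [Category.assoc]) (by rwa [Category.assoc])
  map_α _ k b v hb e e' := s.map_α _ b v hb _ _
  nat _ _ j k b v hb e e' k' b' v' hb' f f' hjk hjb hjv :=
    s.nat j (k ≫ h) b v hb _ _ (k' ≫ h) b' v' hb' _ _ (by rw [← hjk, Category.assoc]) hjb hjv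

variable (H x)

/-- The presheaf of presentations. -/
def secPsh : AlgSp.PSp S where
  obj W := Sec H x W.unop
  map h := TypeCat.ofHom (fun s => Sec.restrict h.unop s)
  map_id W := by
    ext s
    exact Sec.ext' (Category.id_comp _) (Category.id_comp _) fun W' k b v hb e e' f f' =>
      s.α_congr (Category.comp_id k) hb _ _ f f'
  map_comp h h' := by
    ext s
    exact Sec.ext' (Category.assoc _ _ _) (Category.assoc _ _ _) fun W' k b v hb e e' f f' =>
      s.α_congr (Category.assoc _ _ _).symm hb _ _ _ _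

variable {H x}

theorem secPsh_map_a {W W₁ : Over S} (h : W₁ ⟶ W) (s : Sec H x W) :
    ((secPsh H x).map h.op s : Sec H x W₁).a = h ≫ s.a := rfl

theorem secPsh_map_u {W W₁ : Over S} (h : W₁ ⟶ W) (s : Sec H x W) :
    ((secPsh H x).map h.op s : Sec H x W₁).u = h ≫ s.u := rfl

include hp in
/-- Presentations glue. -/
theorem isSheaf_secPsh : Presheaf.IsSheaf (AlgSp.J S) (secPsh H x) := by
  rw [isSheaf_iff_isSheaf_of_type]
  intro W Rc hRc s hs
  have hY : ∀ Y : Over S, Presieve.IsSheafFor (yoneda.obj Y) Rc.arrows := fun Y =>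
    GrothendieckTopology.Subcanonical.isSheaf_of_isRepresentable _ _ hRc
  have hs' : ∀ ⦃Y Z : Over S⦄ (l : Y ⟶ W) (hl : Rc l) (j : Z ⟶ Y),
      Sec.restrict j (s l hl : Sec H x Y) = s (j ≫ l) (Rc.downward_closed hl j) := fun Y Z l hl j => by
    have := hs j (𝟙 Z) hl (Rc.downward_closed hl j) (Category.id_comp _).symm
    refine Eq.trans this ?_
    simp
  obtain ⟨a, ha, hau⟩ := hY T (fun Y l hl => (s l hl : Sec H x Y).a) (fun Y₁ Y₂ Z g₁ g₂ f₁ f₂ h₁ h₂ e =>
    congrArg (fun t : Sec H x Z => t.a) (hs g₁ g₂ h₁ h₂ e))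
  obtain ⟨u, hu, huu⟩ := hY U (fun Y l hl => (s l hl : Sec H x Y).u) (fun Y₁ Y₂ Z g₁ g₂ f₁ f₂ h₁ h₂ e =>
    congrArg (fun t : Sec H x Z => t.u) (hs g₁ g₂ h₁ h₂ e))
  have ha' : ∀ ⦃Y : Over S⦄ (l : Y ⟶ W) (hl : Rc l), l ≫ a = (s l hl : Sec H x Y).a :=
    fun Y l hl => ha l hl
  have hu' : ∀ ⦃Y : Over S⦄ (l : Y ⟶ W) (hl : Rc l), l ≫ u = (s l hl : Sec H x Y).u :=
    fun Y l hl => hu l hl
  let τ : ∀ ⦃Y : Over S⦄ (l : Y ⟶ W) (_ : Rc l) (b : Y ⟶ T) (v : Y ⟶ U) (hb : R b),
      l ≫ a = b → l ≫ u = v → (H.obj (sv b hb) ⟶ x.obj (ov v)) := fun Y l hl b v hb e e' =>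
    (s l hl : Sec H x Y).α (𝟙 Y) b v hb (by rw [Category.id_comp, ← ha' l hl, e])
      (by rw [Category.id_comp, ← hu' l hl, e'])
  have hτ : ∀ ⦃Y Y' : Over S⦄ (l : Y ⟶ W) (hl : Rc l) (j : Y' ⟶ Y) (l' : Y' ⟶ W) (hl' : Rc l')
      (b' : Y' ⟶ T) (v' : Y' ⟶ U) (hb' : R b') (f : j ≫ (s l hl : Sec H x Y).a = b')
      (f' : j ≫ (s l hl : Sec H x Y).u = v') (_ : j ≫ l = l') (g : l' ≫ a = b') (g' : l' ≫ u = v'),
      (s l hl : Sec H x Y).α j b' v' hb' f f' = τ l' hl' b' v' hb' g g' := by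
    intro Y Y' l hl j l' hl' b' v' hb' f f' hjl g g'
    subst hjl
    show _ = (s (j ≫ l) hl' : Sec H x Y').α _ _ _ _ _ _
    revert g g'
    intro g g'
    have e := hs' l hl j
    have : ∀ (t : Sec H x Y'), Sec.restrict j (s l hl : Sec H x Y) = t →
        ∀ (p : 𝟙 Y' ≫ t.a = b') (p' : 𝟙 Y' ≫ t.u = v'),
        (s l hl : Sec H x Y).α j b' v' hb' f f' = t.α (𝟙 Y') b' v' hb' p p' := by
      rintro _ rfl p p'
      exact Sec.α_congr _ (Category.id_comp j).symm hb' f f' _ _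
    exact this _ e _ _
  have hglue : ∀ ⦃W' : Over S⦄ (k : W' ⟶ W) (b : W' ⟶ T) (v : W' ⟶ U) (hb : R b),
      k ≫ a = b → k ≫ u = v → ∃! χ : H.obj (sv b hb) ⟶ x.obj (ov v),
        𝒳.p.map χ = eqToHom (H.w_obj _) ≫ 𝟙 W' ≫ eqToHom (x.w_obj (ov v)).symm ∧
        ∀ ⦃W'' : Over S⦄ (w : W'' ⟶ W') (hw : Rc (w ≫ k)) (b' : W'' ⟶ T) (v' : W'' ⟶ U) (hb' : R b')
          (e₁ : w ≫ b = b') (e₂ : w ≫ v = v') (g : (w ≫ k) ≫ a = b') (g' : (w ≫ k) ≫ u = v'),
          H.map (svHom (hb := hb) (hb' := hb') w e₁) ≫ χ =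
            τ (w ≫ k) hw b' v' hb' g g' ≫ x.map (ovHom w e₂) := by
    intro W' k b v hb e e'
    let Q := Rc.pullback k
    let B : Cone (BasedFunctor.comp (svPush b hb Q) H) :=
      { pt := H.obj (sv b hb)
        p_pt := H.w_obj _
        leg := fun w => H.map (svHom w.obj.hom rfl)
        map_leg := fun w => map_map H _
        nat := fun w w' g => (H.toFunctor.map_comp _ _).symm.trans (congrArg H.map
          (ObjectProperty.hom_ext _ (Over.OverMorphism.ext (Over.w g.hom)))) }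
    obtain ⟨χ, ⟨hχ₁, hχ₂⟩, hχu⟩ := B.existsUnique_desc hp.1
      (hp.2 _ ((AlgSp.J S).pullback_stable k hRc)) (x.w_obj (ov v)) (𝟙 W')
      (fun w => τ (w.obj.hom ≫ k) w.property (w.obj.hom ≫ b) (w.obj.hom ≫ v)
        (R.downward_closed hb _) (by rw [Category.assoc, e]) (by rw [Category.assoc, e']) ≫
        x.map (ovHom w.obj.hom rfl))
      (fun w => by
        rw [Functor.map_comp, Sec.map_α, map_map]
        simp [svPush, sievePush, overCat_map]
        erw [Category.id_comp])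
      (fun w w' g => by
        have hg : g.hom.left ≫ w'.obj.hom = w.obj.hom := Over.w g.hom
        have hg' : g.hom.left ≫ (w'.obj.hom ≫ k) = w.obj.hom ≫ k := by rw [← Category.assoc, hg]
        have he : (w'.obj.hom ≫ k) ≫ a = w'.obj.hom ≫ b := by rw [Category.assoc, e]
        have he' : (w'.obj.hom ≫ k) ≫ u = w'.obj.hom ≫ v := by rw [Category.assoc, e']
        have h1 := (s (w'.obj.hom ≫ k) w'.property : Sec H x _).nat g.hom.left (𝟙 _)
          (w'.obj.hom ≫ b) (w'.obj.hom ≫ v) (R.downward_closed hb _)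
          (by rw [Category.id_comp, ← ha' _ w'.property, he])
          (by rw [Category.id_comp, ← hu' _ w'.property, he'])
          g.hom.left (w.obj.hom ≫ b) (w.obj.hom ≫ v) (R.downward_closed hb _)
          (by rw [← ha' _ w'.property, he, ← Category.assoc, hg])
          (by rw [← hu' _ w'.property, he', ← Category.assoc, hg])
          (Category.comp_id _) (by rw [← Category.assoc, hg]) (by rw [← Category.assoc, hg])
        show H.map _ ≫ τ (w'.obj.hom ≫ k) w'.property _ _ (R.downward_closed hb _) he he' ≫ _ = _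
        rw [← Category.assoc]
        refine (congrArg (· ≫ x.map (ovHom w'.obj.hom rfl)) h1).trans ?_
        rw [Category.assoc, ← Functor.map_comp,
          hτ _ w'.property g.hom.left _ w.property _ _ _ _ _ hg'
            (by rw [Category.assoc, e]) (by rw [Category.assoc, e'])]
        exact congrArg (_ ≫ x.map ·) (Over.OverMorphism.ext hg))
    refine ⟨χ, ⟨hχ₁, ?_⟩, fun χ' ⟨h1, h2⟩ => hχu χ' ⟨h1, fun w => h2 _ w.property _ _ _ rfl rfl (by rw [Category.assoc, e]) (by rw [Category.assoc, e'])⟩⟩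
    intro W'' w hw b' v' hb' e₁ e₂ g g'
    subst e₁
    subst e₂
    exact hχ₂ ⟨Over.mk w, hw⟩
  choose χ hχ hχu using hglue
  let t : Sec H x W :=
    { a := a
      u := u
      α := χ
      map_α := fun W' k b v hb e e' => (hχ k b v hb e e').1
      nat := fun W' W'' j k b v hb e e' k' b' v' hb' f f' hjk hjb hjv => by
        refine datum_hom_ext hp H (x.w_obj (ov v)) j
          ((AlgSp.J S).pullback_stable k' hRc) ?_ ?_ fun Y w hw b'' hb'' e₁ => ?_
        · rw [Functor.map_comp, map_map, (hχ k b v hb e e').1]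
          simp [sieveCat_map_left]
          erw [Category.id_comp]
        · rw [Functor.map_comp, map_map, (hχ k' b' v' hb' f f').1]
          simp [overCat_map]
          erw [Category.id_comp]
        · have hw' : Rc ((w ≫ j) ≫ k) := by rwa [Category.assoc, hjk]
          have hg : ((w ≫ j) ≫ k) ≫ a = b'' := by
            rw [Category.assoc, e, Category.assoc, hjb, e₁]
          have hg' : ((w ≫ j) ≫ k) ≫ u = w ≫ v' := by rw [Category.assoc, e', Category.assoc, hjv]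
          have h1 := (hχ k' b' v' hb' f f').2 w hw b'' (w ≫ v') hb'' e₁ rfl
            (by rw [Category.assoc, f, e₁]) (by rw [Category.assoc, f'])
          have h2 := (hχ k b v hb e e').2 (w ≫ j) hw' b'' (w ≫ v') hb''
            (by rw [Category.assoc, hjb, e₁]) (by rw [Category.assoc, hjv]) hg hg'
          refine (Category.assoc _ _ _).symm.trans ((congrArg (· ≫ χ k b v hb e e')
            ((H.toFunctor.map_comp _ _).symm.trans (congrArg H.map
              (ObjectProperty.hom_ext _ (Over.OverMorphism.ext rfl))))).trans (h2.trans ?_))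
          refine Eq.trans ?_ ((congrArg (· ≫ x.map (ovHom j hjv)) h1).symm.trans (Category.assoc _ _ _))
          refine Eq.trans ?_ ((congrArg (_ ≫ ·) (x.toFunctor.map_comp _ _)).trans
            (Category.assoc _ _ _).symm)
          have hτc : ∀ {l l' : Y ⟶ W} (_ : l = l') (p : Rc l) (p' : Rc l') (q : l ≫ a = b'')
              (q' : l ≫ u = w ≫ v') (r : l' ≫ a = b'') (r' : l' ≫ u = w ≫ v'),
              τ l p b'' (w ≫ v') hb'' q q' = τ l' p' b'' (w ≫ v') hb'' r r' := by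
            rintro l _ rfl p p' q q' r r'
            rfl
          exact congrArg₂ (· ≫ x.map ·) (hτc (by rw [Category.assoc, hjk]) hw' hw hg hg'
            (by rw [Category.assoc, f, e₁]) (by rw [Category.assoc, f']))
            (Over.OverMorphism.ext rfl) }
  refine ⟨t, fun Y l hl => Sec.ext' (ha' l hl) (hu' l hl) fun W' k b v hb e e' f f' => ?_, ?_⟩
  · refine (hχu (k ≫ l) b v hb _ _ _ ⟨(s l hl : Sec H x Y).map_α _ _ _ _ f f', ?_⟩).symm
    intro W'' w hw b' v' hb' e₁ e₂ g g'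
    have hh : (w ≫ k) ≫ (s l hl : Sec H x Y).a = b' := by rw [Category.assoc, f, e₁]
    have hh' : (w ≫ k) ≫ (s l hl : Sec H x Y).u = v' := by rw [Category.assoc, f', e₂]
    rw [(s l hl : Sec H x Y).nat w k b v hb f f' (w ≫ k) b' v' hb' hh hh' rfl e₁ e₂]
    rw [hτ l hl (w ≫ k) _ hw b' v' hb' hh hh' (Category.assoc _ _ _) g g']
  · intro t' ht'
    have hta : (t' : Sec H x W).a = a := hau _ fun Y l hl =>
      congrArg (fun t : Sec H x Y => t.a) (ht' l hl)
    have htu : (t' : Sec H x W).u = u := huu _ fun Y l hl =>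
      congrArg (fun t : Sec H x Y => t.u) (ht' l hl)
    refine Sec.ext' hta htu fun W' k b v hb e e' f f' => ?_
    refine hχu k b v hb f f' _ ⟨(t' : Sec H x W).map_α _ _ _ _ e e', ?_⟩
    intro W'' w hw b' v' hb' e₁ e₂ g g'
    have hh : (w ≫ k) ≫ (t' : Sec H x W).a = b' := by rw [hta]; exact g
    have hh' : (w ≫ k) ≫ (t' : Sec H x W).u = v' := by rw [htu]; exact g'
    rw [(t' : Sec H x W).nat w k b v hb e e' (w ≫ k) b' v' hb' hh hh' rfl e₁ e₂]
    have hr : Sec.restrict (w ≫ k) (t' : Sec H x W) = s (w ≫ k) hw := ht' _ hw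
    have : ∀ (t₀ : Sec H x W''), Sec.restrict (w ≫ k) (t' : Sec H x W) = t₀ →
        ∀ (p : 𝟙 W'' ≫ t₀.a = b') (p' : 𝟙 W'' ≫ t₀.u = v'),
        (t' : Sec H x W).α (w ≫ k) b' v' hb' hh hh' = t₀.α (𝟙 W'') b' v' hb' p p' := by
      rintro _ rfl p p'
      exact Sec.α_congr _ (Category.id_comp _).symm hb' hh hh' _ _
    exact congrArg (· ≫ x.map (ovHom w e₂)) (this _ hr _ _)

end Groth.StkFppf
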