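import Groth.Agent.StkFppf.SecPsh

/-!
# Presentations over a cover on which the datum is an object
-/

set_option autoImplicit false
set_option backward.isDefEq.respectTransparency false
set_option backward.isDefEq.respectTransparency.types false

universe u

open CategoryTheory CategoryTheory.Limits AlgebraicGeometry Opposite
open Groth.StkBase

noncomputable section

namespace Groth.StkFppf

variable {S : Scheme.{u}} {𝒳 : AlgSt.Cat S} {U T V : Over S} {R : Sieve T}
  (hp : Stk.IsPrestack (AlgSp.J S) 𝒳) {H : Stk.sieveCat R ⥤ᵇ 𝒳} {g : V ⟶ T}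
  {G : FibCat.overCat V ⥤ᵇ 𝒳}
  (β : (Stk.resSieve (R.pullback g) 𝒳).obj G ≅
    BasedFunctor.comp (sievePush (Q := R.pullback g) g fun _ _ hk => hk) H)

/-- The restriction of `G` to `W` receives the datum. -/
def objCone {W : Over S} (b₀ : W ⟶ V) :
    Cone (BasedFunctor.comp (sievePush (Q := R.pullback (b₀ ≫ g)) (b₀ ≫ g) fun _ _ hk => hk) H) := by
  let q : Stk.sieveCat (R.pullback (b₀ ≫ g)) ⥤ᵇ Stk.sieveCat (R.pullback g) :=
    sievePush b₀ fun Y k hk => by
      show R ((k ≫ b₀) ≫ g)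
      rw [Category.assoc]
      exact hk
  let c : ∀ w : (Stk.sieveCat (R.pullback (b₀ ≫ g))).obj,
      (sievePush (Q := R.pullback (b₀ ≫ g)) (b₀ ≫ g) fun _ _ hk => hk).obj w ⟶
        (sievePush (Q := R.pullback g) g fun _ _ hk => hk).obj (q.obj w) := fun w =>
    ObjectProperty.homMk (Over.homMk (𝟙 _) (by
      change 𝟙 _ ≫ (w.obj.hom ≫ b₀) ≫ g = w.obj.hom ≫ b₀ ≫ g
      rw [Category.id_comp, Category.assoc]))
  refine
    { pt := G.obj (ov b₀)
      p_pt := G.w_obj _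
      leg := fun w => H.map (c w) ≫ (isoApp β (q.obj w)).inv ≫ G.map (ovHom w.obj.hom rfl)
      map_leg := fun w => ?_
      nat := fun w w' f => ?_ }
  · rw [Functor.map_comp, Functor.map_comp, map_map, map_map, (isVert_isoApp β (q.obj w)).inv.map_eq]
    simp [c, q, sievePush, overCat_map, sieveCat_map_left]
    erw [Category.id_comp]
  · have hc : (sievePush (Q := R.pullback (b₀ ≫ g)) (b₀ ≫ g) fun _ _ hk => hk).map f ≫ c w' =
        c w ≫ (sievePush (Q := R.pullback g) g fun _ _ hk => hk).map (q.map f) :=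
      ObjectProperty.hom_ext _ (Over.OverMorphism.ext
        ((Category.comp_id _).trans (Category.id_comp _).symm))
    have hβ : (isoApp β (q.obj w)).inv ≫ G.map (q.map f).hom =
        H.map ((sievePush (Q := R.pullback g) g fun _ _ hk => hk).map (q.map f)) ≫
          (isoApp β (q.obj w')).inv :=
      (β.inv.toNatTrans.naturality (q.map f)).symm
    show H.map _ ≫ H.map (c w') ≫ _ = _
    rw [← Category.assoc, ← Functor.map_comp, hc, Functor.map_comp, Category.assoc, ← reassoc_of% hβ]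
    refine congrArg (fun m => H.map (c w) ≫ (isoApp β (q.obj w)).inv ≫ m) ?_
    exact (G.toFunctor.map_comp _ _).symm.trans
      (congrArg G.map (Over.OverMorphism.ext (Over.w f.hom)))

variable {x : FibCat.overCat U ⥤ᵇ 𝒳}

/-- Data of a morphism from the pullback of `G` to an object of the atlas, over `W`. -/
structure Trip (G : FibCat.overCat V ⥤ᵇ 𝒳) (x : FibCat.overCat U ⥤ᵇ 𝒳) (W : Over S) where
  /-- the map to the cover -/
  b₀ : W ⟶ V
  /-- the object of the atlas -/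
  o : (FibCat.overCat U).obj
  ho : o.left = W
  /-- the morphism -/
  χ : G.obj (ov b₀) ⟶ x.obj o
  map_χ : 𝒳.p.map χ = eqToHom (G.w_obj (ov b₀)) ≫ eqToHom ho.symm ≫ eqToHom (x.w_obj o).symm

/-- The map of a triple to the atlas. -/
abbrev Trip.v₀ {W : Over S} (t : Trip G x W) : W ⟶ U := eqToHom t.ho.symm ≫ t.o.hom

variable {β}

/-- The arrow from a value of the datum to the object of the triple. -/
abbrev Trip.toObj {W : Over S} (t : Trip G x W) {W' : Over S} (k : W' ⟶ W) (b : W' ⟶ T)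
    (hb : R b) (e : k ≫ t.b₀ ≫ g = b) : H.obj (sv b hb) ⟶ x.obj t.o :=
  H.map (svHom (hb := (show R (k ≫ t.b₀ ≫ g) by rwa [e])) (hb' := hb) (𝟙 W')
      (by rw [Category.id_comp, e])) ≫
    (objCone β t.b₀).leg ⟨Over.mk k, (show R (k ≫ t.b₀ ≫ g) by rwa [e])⟩ ≫ t.χ

/-- The morphism to the object of a triple in the slice. -/
abbrev Trip.hom {W : Over S} (t : Trip G x W) {W' : Over S} (k : W' ⟶ W) (v : W' ⟶ U)
    (e' : k ≫ t.v₀ = v) : ov v ⟶ t.o :=
  Over.homMk (k ≫ eqToHom t.ho.symm) (by rw [Category.assoc]; exact e')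

theorem Trip.map_toObj {W : Over S} (t : Trip G x W) {W' : Over S} (k : W' ⟶ W) (b : W' ⟶ T)
    (v : W' ⟶ U) (hb : R b) (e : k ≫ t.b₀ ≫ g = b) (e' : k ≫ t.v₀ = v) :
    eqToHom ((H.w_obj (sv b hb)).trans (x.w_obj (ov v)).symm) ≫ 𝒳.p.map (x.map (t.hom k v e')) =
      𝒳.p.map (t.toObj (β := β) k b hb e) := by
  rw [Functor.map_comp, Functor.map_comp, map_map, map_map, (objCone β t.b₀).map_leg, t.map_χ]
  simp [objCone, Trip.hom, overCat_map, sieveCat_map_left]
  erw [Category.id_comp]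

include hp in
/-- The presentation of a triple. -/
def Trip.sec {W : Over S} (t : Trip G x W) : Sec H x W where
  a := t.b₀ ≫ g
  u := t.v₀
  α _ k b v hb e e' := factor hp.1 (x.map (t.hom k v e')) (t.toObj (β := β) k b hb e) _
    (t.map_toObj k b v hb e e')
  map_α _ k b v hb e e' := (factor_map hp.1 _ _ _ _).trans ((eqToHom_trans _ _).symm.trans (congrArg (eqToHom _ ≫ ·) (Category.id_comp _).symm))
  nat W' W'' j k b v hb e e' k' b' v' hb' f f' hjk hjb hjv := by
    apply hom_eq_of_comp_eq hp.1 (x.map (t.hom k v e'))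
    · simp [map_map, factor_map, overCat_map, sieveCat_map_left]
    · rw [Category.assoc, factor_comp, Category.assoc, ← Functor.map_comp]
      have h1 : ovHom j hjv ≫ t.hom k v e' = t.hom k' v' f' :=
        Over.OverMorphism.ext ((Category.assoc _ _ _).symm.trans (congrArg (· ≫ _) hjk))
      rw [h1, factor_comp]
      let w : (Stk.sieveCat (R.pullback (t.b₀ ≫ g))).obj :=
        ⟨Over.mk k, show R (k ≫ t.b₀ ≫ g) by rwa [e]⟩
      let w' : (Stk.sieveCat (R.pullback (t.b₀ ≫ g))).obj :=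
        ⟨Over.mk k', show R (k' ≫ t.b₀ ≫ g) by rwa [f]⟩
      let a : w' ⟶ w := ObjectProperty.homMk (Over.homMk j hjk)
      refine Eq.trans ?_ (congrArg (fun m => H.map _ ≫ m ≫ t.χ) ((objCone β t.b₀).nat a))
      show H.map _ ≫ H.map _ ≫ _ = H.map _ ≫ (H.map ((sievePush (Q := R.pullback (t.b₀ ≫ g))
        (t.b₀ ≫ g) fun _ _ hk => hk).map a) ≫ (objCone β t.b₀).leg w) ≫ t.χ
      simp only [Category.assoc]
      rw [← Functor.map_comp_assoc, ← Functor.map_comp_assoc]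
      exact congrArg (fun m => H.map m ≫ _) (ObjectProperty.hom_ext _
        (Over.OverMorphism.ext ((Category.comp_id _).trans (Category.id_comp _).symm)))

include hp in
theorem Trip.sec_α_comp {W : Over S} (t : Trip G x W) {W' : Over S} (k : W' ⟶ W) (b : W' ⟶ T)
    (v : W' ⟶ U) (hb : R b) (e : k ≫ (t.sec hp (β := β)).a = b)
    (e' : k ≫ (t.sec hp (β := β)).u = v) :
    (t.sec hp (β := β)).α k b v hb e e' ≫ x.map (t.hom k v e') = t.toObj (β := β) k b hb e :=
  factor_comp hp.1 _ _ _ (t.map_toObj k b v hb e e')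

/-- The arrow to the object of a triple through a restriction of the triple. -/
theorem Trip.toObj_comp {W W₁ : Over S} (t : Trip G x W) (j : W₁ ⟶ W) {b₁ : W₁ ⟶ V}
    (hb : j ≫ t.b₀ = b₁) {W' : Over S} (k : W' ⟶ W₁) (b : W' ⟶ T) (hb' : R b)
    (e : (k ≫ j) ≫ t.b₀ ≫ g = b) (f₁ : k ≫ b₁ ≫ g = b) :
    t.toObj (β := β) (k ≫ j) b hb' e =
      H.map (svHom (hb := (show R (k ≫ b₁ ≫ g) by rwa [f₁])) (hb' := hb') (𝟙 W')
          (by rw [Category.id_comp, f₁])) ≫
        (objCone β b₁).leg ⟨Over.mk k, (show R (k ≫ b₁ ≫ g) by rwa [f₁])⟩ ≫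
          G.map (ovHom j hb) ≫ t.χ := by
  simp only [Trip.toObj, objCone, Category.assoc]
  erw [← reassoc_of% (G.toFunctor.map_comp (ovHom k rfl : ov (k ≫ b₁) ⟶ ov b₁) (ovHom j hb))]
  have hI : ∀ {b₁ b₂ : W' ⟶ V} (h : b₁ = b₂) (hm₁ : (R.pullback g) b₁) (hm₂ : (R.pullback g) b₂)
      {Z : 𝒳.obj} (m : G.obj (ov b₂) ⟶ Z),
      (isoApp β ⟨Over.mk b₂, hm₂⟩).inv ≫ m =
        H.map ((sievePush (Q := R.pullback g) g fun _ _ hk => hk).map
            (svHom (hb := hm₁) (hb' := hm₂) (𝟙 W') (by rw [Category.id_comp, h]))) ≫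
          (isoApp β ⟨Over.mk b₁, hm₁⟩).inv ≫ G.map (ovHom (𝟙 W') (by rw [Category.id_comp, h])) ≫
            m := by
    rintro b₁ _ rfl hm₁ hm₂ Z m
    refine (Category.id_comp _).symm.trans ?_
    refine Eq.trans (congrArg (· ≫ _) ((BasedFunctor.comp (sievePush (Q := R.pullback g) g fun _ _ hk => hk) H).toFunctor.map_id _).symm) ?_
    refine congrArg (fun n => H.map _ ≫ (isoApp β ⟨Over.mk b₁, hm₁⟩).inv ≫ n) ?_
    exact (Category.id_comp _).symm.trans (congrArg (· ≫ m) (G.toFunctor.map_id _).symm)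
  have hkb : k ≫ b₁ = (k ≫ j) ≫ t.b₀ := by rw [Category.assoc, hb]
  have hm₁ : R ((k ≫ b₁) ≫ g) := by
    rw [Category.assoc]
    exact (show k ≫ b₁ ≫ g = b from f₁).symm ▸ hb'
  have hm₂ : R (((k ≫ j) ≫ t.b₀) ≫ g) := by rw [← hkb]; exact hm₁
  refine (congrArg (fun n => H.map _ ≫ H.map _ ≫ n) (hI hkb hm₁ hm₂ _)).trans ?_
  erw [← G.toFunctor.map_comp_assoc, ← H.toFunctor.map_comp_assoc, ← H.toFunctor.map_comp_assoc,
    ← H.toFunctor.map_comp_assoc]
  refine congrArg₂ (fun p q => H.map p ≫ (isoApp β ⟨Over.mk (k ≫ b₁), hm₁⟩).inv ≫ G.map q ≫ t.χ) ?_ ?_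
  · exact ObjectProperty.hom_ext _ (Over.OverMorphism.ext (
      show 𝟙 W' ≫ 𝟙 W' ≫ 𝟙 W' = 𝟙 W' ≫ 𝟙 W' by simp))
  · refine Over.OverMorphism.ext ?_
    show 𝟙 W' ≫ k ≫ j = k ≫ j
    rw [Category.id_comp]


include hp in
/-- The presentation of a triple restricts as soon as the morphisms agree. -/
theorem Trip.restrict_sec {W W₁ : Over S} (t : Trip G x W) (t₁ : Trip G x W₁) (j : W₁ ⟶ W)
    (hb : j ≫ t.b₀ = t₁.b₀) (f : t₁.o ⟶ t.o)
    (hf : f.left = eqToHom t₁.ho ≫ j ≫ eqToHom t.ho.symm)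
    (hw : G.map (ovHom j hb) ≫ t.χ = t₁.χ ≫ x.map f) :
    Sec.restrict j (t.sec hp (β := β)) = t₁.sec hp (β := β) := by
  have hu : j ≫ t.v₀ = t₁.v₀ := by
    show _ = eqToHom t₁.ho.symm ≫ t₁.o.hom
    rw [← Over.w f, hf]
    simp
  refine Sec.ext' ((Category.assoc _ _ _).symm.trans (congrArg (· ≫ g) hb)) hu
    fun W' k b v hb' e e' f₁ f₁' => ?_
  apply hom_eq_of_comp_eq hp.1 (x.map (t.hom (k ≫ j) v (by rw [Category.assoc]; exact e')))
  · rw [Sec.map_α, Sec.map_α]
  · refine (t.sec_α_comp hp (k ≫ j) b v hb' _ _).trans ?_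
    have h1 : t.hom (k ≫ j) v (by rw [Category.assoc]; exact e') = t₁.hom k v f₁' ≫ f := by
      refine Over.OverMorphism.ext ?_
      show (k ≫ j) ≫ eqToHom t.ho.symm = (k ≫ eqToHom t₁.ho.symm) ≫ f.left
      rw [hf]
      simp
    rw [h1, Functor.map_comp, reassoc_of% (t₁.sec_α_comp hp k b v hb' f₁ f₁')]
    rw [t.toObj_comp j hb k b hb' (by rw [Category.assoc]; exact e) f₁, hw]

end Groth.StkFppf
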