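import Groth.Agent.StkFppf.SecPullback
import Groth.Agent.AlgStBasic.LocalLift
import Groth.Agent.AlgSpBasic.RepWith

/-!
# The sheaf of presentations over a cover is a fibre product with the atlas
-/

set_option autoImplicit false
set_option backward.isDefEq.respectTransparency false
set_option backward.isDefEq.respectTransparency.types false

universe u

open CategoryTheory CategoryTheory.Limits AlgebraicGeometry Opposite
open Groth.StkBase Groth.AlgSpBasic

noncomputable section

namespace Groth.StkFppf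

variable {S : Scheme.{u}} {𝒳 : AlgSt.Cat S} {U T : Over S} {R : Sieve T}

theorem yEquiv_comp_map {F : AlgSp.Sp S} {W W₁ : Over S} (j : W₁ ⟶ W)
    (l : (AlgSp.yon S).obj W ⟶ F) :
    yEquiv ((AlgSp.yon S).map j ≫ l) = F.obj.map j.op (yEquiv l) :=
  ((AlgSp.J S).uliftYonedaEquiv_naturality l j).symm

theorem yEquiv_map {W W₁ : Over S} (j : W₁ ⟶ W) :
    yEquiv ((AlgSp.yon S).map j) = ⟨j⟩ := by
  apply ULift.ext
  exact Category.id_comp j

variable (hp : Stk.IsPrestack (AlgSp.J S) 𝒳) (H : Stk.sieveCat R ⥤ᵇ 𝒳)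
  (x : FibCat.overCat U ⥤ᵇ 𝒳)

include hp in
/-- The sheaf of presentations. -/
def secSheaf : AlgSp.Sp S := ⟨secPsh H x, isSheaf_secPsh hp⟩

/-- The projection of the sheaf of presentations to the base of the datum. -/
def secToT : secSheaf hp H x ⟶ (AlgSp.yon S).obj T :=
  ObjectProperty.homMk
    { app := fun W => ↾fun s : Sec H x W.unop => ⟨s.a⟩
      naturality := fun W W' h => by
        ext s
        rfl }

theorem yEquiv_comp_secToT {W : Over S} (l : (AlgSp.yon S).obj W ⟶ secSheaf hp H x) :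
    yEquiv (l ≫ secToT hp H x) = ⟨(yEquiv l : Sec H x W).a⟩ :=
  ((AlgSp.J S).uliftYonedaEquiv_comp l (secToT hp H x))

theorem map_secToT_eq {W : Over S} (l : (AlgSp.yon S).obj W ⟶ secSheaf hp H x) :
    l ≫ secToT hp H x = (AlgSp.yon S).map (yEquiv l : Sec H x W).a := by
  apply yEquiv.injective
  rw [yEquiv_comp_secToT, yEquiv_map]

variable {V : Over S} (g : V ⟶ T)

/-- The base change of the sheaf of presentations to the cover. -/
abbrev secPullback : AlgSp.Sp S := pullback (secToT hp H x) ((AlgSp.yon S).map g)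

variable {H x g} {G : FibCat.overCat V ⥤ᵇ 𝒳}
  (β : (Stk.resSieve (R.pullback g) 𝒳).obj G ≅
    BasedFunctor.comp (sievePush (Q := R.pullback g) g fun _ _ hk => hk) H)

/-- The triple of an object of the fibre product. -/
def tripOf (o : (FibCat.fp G x).obj) : Trip G x ((FibCat.fp G x).p.obj o) where
  b₀ := o.obj.fst.hom
  o := o.obj.snd
  ho := fp_p_snd o
  χ := o.obj.iso.hom
  map_χ := by
    rw [(fp_isVert o).map_eq, eqToHom_trans, eqToHom_trans]

/-- The point of the base change given by a triple. -/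
def Trip.toPullback {W : Over S} (t : Trip G x W) :
    (AlgSp.yon S).obj W ⟶ secPullback hp H x g :=
  pullback.lift (yEquiv.symm (t.sec hp (β := β))) ((AlgSp.yon S).map t.b₀) (by
    rw [map_secToT_eq, Equiv.apply_symm_apply, ← Functor.map_comp]
    rfl)

theorem Trip.toPullback_fst {W : Over S} (t : Trip G x W) :
    yEquiv (t.toPullback hp β ≫ pullback.fst _ _) = t.sec hp (β := β) := by
  rw [Trip.toPullback, pullback.lift_fst, Equiv.apply_symm_apply]

theorem Trip.toPullback_snd {W : Over S} (t : Trip G x W) :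
    t.toPullback hp β ≫ pullback.snd _ _ = (AlgSp.yon S).map t.b₀ :=
  pullback.lift_snd _ _ _

theorem pullback_point_ext {W : Over S} {l l' : (AlgSp.yon S).obj W ⟶ secPullback hp H x g}
    (h₁ : yEquiv (l ≫ pullback.fst _ _) = yEquiv (l' ≫ pullback.fst _ _))
    (h₂ : l ≫ pullback.snd _ _ = l' ≫ pullback.snd _ _) : l = l' :=
  pullback.hom_ext (yEquiv.injective h₁) h₂

theorem tripOf_restrict {o o' : (FibCat.fp G x).obj} (f : o ⟶ o') :
    (AlgSp.yon S).map ((FibCat.fp G x).p.map f) ≫ (tripOf o').toPullback hp β =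
      (tripOf o).toPullback hp β := by
  apply pullback_point_ext hp
  · rw [Category.assoc, yEquiv_comp_map, Trip.toPullback_fst, Trip.toPullback_fst]
    exact (tripOf o').restrict_sec hp (tripOf o) _ (Over.w f.hom.fst) f.hom.snd
      (fp_map_snd f) f.hom.w
  · rw [Category.assoc, Trip.toPullback_snd, Trip.toPullback_snd, ← Functor.map_comp]
    exact congrArg _ (Over.w f.hom.fst)

/-- The functor from the fibre product with the atlas to the base change of the sheaf. -/
def fpToSec : FibCat.fp G x ⥤ᵇ Stk.ofPsh (secPullback hp H x g).obj where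
  toFunctor :=
    { obj := fun o => ⟨(FibCat.fp G x).p.obj o, yEquiv ((tripOf o).toPullback hp β)⟩
      map := fun {o o'} f => ⟨(FibCat.fp G x).p.map f, by
        rw [← yEquiv_comp_map, tripOf_restrict hp β f]⟩
      map_id := fun o => elt_hom_ext_p ((FibCat.fp G x).p.map_id o)
      map_comp := fun f f' => elt_hom_ext_p ((FibCat.fp G x).p.map_comp f f') }
  w := rfl

include β in
/-- Equal presentations come from compatible morphisms. -/
theorem Trip.hom_eq_of_restrict_sec {W W₁ : Over S} (t : Trip G x W) (t₁ : Trip G x W₁) (j : W₁ ⟶ W)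
    (hR : R.pullback (t₁.b₀ ≫ g) ∈ AlgSp.J S W₁)
    (hb : j ≫ t.b₀ = t₁.b₀) (f : t₁.o ⟶ t.o)
    (hf : f.left = eqToHom t₁.ho ≫ j ≫ eqToHom t.ho.symm)
    (he : Sec.restrict j (t.sec hp (β := β)) = t₁.sec hp (β := β)) :
    G.map (ovHom j hb) ≫ t.χ = t₁.χ ≫ x.map f := by
  have hu : j ≫ t.v₀ = t₁.v₀ := congrArg Sec.u he
  refine ((objCone β t₁.b₀).existsUnique_desc hp.1 (hp.2 _ hR)
    ((x.w_obj t.o).trans t.ho) j (fun w => (objCone β t₁.b₀).leg w ≫ G.map (ovHom j hb) ≫ t.χ)
    (fun w => ?_) fun w w' a => ?_).unique ⟨?_, fun _ => rfl⟩ ⟨?_, fun w => ?_⟩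
  · rw [Functor.map_comp, Functor.map_comp, (objCone β t₁.b₀).map_leg, map_map, t.map_χ]
    simp [objCone, overCat_map]
  · exact (Category.assoc _ _ _).symm.trans (congrArg (· ≫ _) ((objCone β t₁.b₀).nat a))
  · rw [Functor.map_comp, map_map, t.map_χ]
    simp [objCone, overCat_map]
  · rw [Functor.map_comp, map_map, t₁.map_χ, overCat_map, hf]
    simp [objCone]
  · let k := w.obj.hom
    let b := k ≫ t₁.b₀ ≫ g
    let v := k ≫ t₁.v₀
    have hb' : R b := w.property
    have e : (k ≫ j) ≫ t.b₀ ≫ g = b := by rw [Category.assoc, reassoc_of% hb]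
    have e' : (k ≫ j) ≫ t.v₀ = v := by rw [Category.assoc, hu]
    have hα : (t.sec hp (β := β)).α (k ≫ j) b v hb' e e' =
        (t₁.sec hp (β := β)).α k b v hb' rfl rfl := by
      have : ∀ (s : Sec H x W₁), Sec.restrict j (t.sec hp (β := β)) = s →
          ∀ (p : k ≫ s.a = b) (p' : k ≫ s.u = v),
          (t.sec hp (β := β)).α (k ≫ j) b v hb' e e' = s.α k b v hb' p p' := by
        rintro _ rfl p p'
        rfl
      exact this _ he _ _
    have hh : t.hom (k ≫ j) v e' = t₁.hom k v rfl ≫ f := by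
      refine Over.OverMorphism.ext ?_
      show (k ≫ j) ≫ eqToHom t.ho.symm = (k ≫ eqToHom t₁.ho.symm) ≫ f.left
      rw [hf]
      simp
    have h2 := t.sec_α_comp hp (β := β) (k ≫ j) b v hb' e e'
    rw [t.toObj_comp j hb k b hb' e rfl, hα, hh, Functor.map_comp,
      reassoc_of% (t₁.sec_α_comp hp (β := β) k b v hb' rfl rfl)] at h2
    have hid : H.map (svHom (hb := (show R (k ≫ t₁.b₀ ≫ g) from hb')) (hb' := hb') (𝟙 w.obj.left)
        (by rw [Category.id_comp])) = 𝟙 _ :=
      H.toFunctor.map_id _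
    rw [hid] at h2
    erw [Category.id_comp, Category.id_comp] at h2
    exact h2

/-- The base change of the sheaf of presentations to the cover is the fibre product of the object
with the atlas. -/
theorem isEquivOver_fpToSec (hR : ∀ {W : Over S} (a : W ⟶ T), R.pullback a ∈ AlgSp.J S W) :
    FibCat.IsEquivOver (fpToSec hp β : FibCat.fp G x ⥤ᵇ _) := by
  refine isEquivOver_of_fullyFaithful _ ⟨fun {o o'} φ => ?_⟩ ⟨fun {o o'} f f' h => ?_⟩ fun y => ?_
  · have hs := φ.map_sec
    have hs' : (AlgSp.yon S).map φ.hom ≫ (tripOf o').toPullback hp β =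
        (tripOf o).toPullback hp β := yEquiv.injective ((yEquiv_comp_map _ _).trans hs)
    have hb : φ.hom ≫ (tripOf o').b₀ = (tripOf o).b₀ := by
      have := congrArg (· ≫ pullback.snd _ _) hs'
      simp only [Category.assoc, Trip.toPullback_snd, ← Functor.map_comp] at this
      exact (AlgSp.yon S).map_injective this
    have hsec : Sec.restrict φ.hom ((tripOf o').sec hp (β := β)) = (tripOf o).sec hp (β := β) := by
      have := congrArg (fun l => yEquiv (l ≫ pullback.fst _ _)) hs'
      simp only [Category.assoc, yEquiv_comp_map, Trip.toPullback_fst] at this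
      exact this
    let f₂ : o.obj.snd ⟶ o'.obj.snd :=
      Over.homMk (eqToHom (tripOf o).ho ≫ φ.hom ≫ eqToHom (tripOf o').ho.symm) (by
        have := congrArg Sec.u hsec
        change φ.hom ≫ eqToHom (tripOf o').ho.symm ≫ o'.obj.snd.hom =
          eqToHom (tripOf o).ho.symm ≫ o.obj.snd.hom at this
        rw [← cancel_epi (eqToHom (tripOf o).ho.symm), ← this]
        simp [tripOf])
    exact ⟨fpHom (ovHom φ.hom hb) f₂
      ((tripOf o').hom_eq_of_restrict_sec hp β (tripOf o) φ.hom (hR _) hb f₂ rfl hsec),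
      elt_hom_ext_p rfl⟩
  · have h₁ : f.hom.fst = f'.hom.fst :=
      Over.OverMorphism.ext (congrArg (fun a => a.hom) h)
    refine fp_hom_ext h₁ (Over.OverMorphism.ext ?_)
    have e := fp_map_snd f
    have e' := fp_map_snd f'
    rw [overCat_map] at e e'
    rw [e, e', h₁]
  · let W := y.base
    let l : (AlgSp.yon S).obj W ⟶ secPullback hp H x g := yEquiv.symm y.sec
    obtain ⟨b₀, hb₀⟩ := (AlgSp.yon S).map_surjective (l ≫ pullback.snd _ _)
    let s : Sec H x W := yEquiv (l ≫ pullback.fst _ _)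
    have ha : b₀ ≫ g = s.a := (AlgSp.yon S).map_injective (by
      rw [← map_secToT_eq hp H x (l ≫ pullback.fst _ _), Functor.map_comp, hb₀, Category.assoc,
        Category.assoc, pullback.condition])
    let A := objCone β b₀
    have hk : ∀ w : (Stk.sieveCat (R.pullback (b₀ ≫ g))).obj, R (w.obj.hom ≫ b₀ ≫ g) := fun w => w.property
    obtain ⟨χ, ⟨hχ, hχ'⟩, -⟩ := A.existsUnique_desc hp.1 (hp.2 _ (hR _)) (x.w_obj (ov s.u)) (𝟙 W)
      (fun w => s.α w.obj.hom (w.obj.hom ≫ b₀ ≫ g) (w.obj.hom ≫ s.u) (hk w) (congrArg (_ ≫ ·) ha.symm) rfl ≫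
        x.map (ovHom w.obj.hom rfl))
      (fun w => by
        rw [Functor.map_comp, s.map_α, map_map]
        simp [sievePush, overCat_map]
        erw [Category.id_comp])
      (fun w w' a => by
        have hwa : a.hom.left ≫ w'.obj.hom = w.obj.hom := Over.w a.hom
        have h1 := s.nat a.hom.left w'.obj.hom (w'.obj.hom ≫ b₀ ≫ g) (w'.obj.hom ≫ s.u) (hk w')
          (congrArg (_ ≫ ·) ha.symm) rfl w.obj.hom (w.obj.hom ≫ b₀ ≫ g) (w.obj.hom ≫ s.u) (hk w) (congrArg (_ ≫ ·) ha.symm) rfl
          hwa (by rw [← Category.assoc, hwa]) (by rw [← Category.assoc, hwa])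
        refine (Category.assoc _ _ _).symm.trans ((congrArg (· ≫ x.map (ovHom w'.obj.hom rfl)) h1).trans ?_)
        rw [Category.assoc, ← Functor.map_comp]
        exact congrArg (_ ≫ x.map ·) (Over.OverMorphism.ext hwa))
    let t : Trip G x W :=
      { b₀ := b₀
        o := ov s.u
        ho := rfl
        χ := χ
        map_χ := hχ.trans (congrArg (eqToHom A.p_pt ≫ ·) (by simp; try rfl)) }
    have ht : t.sec hp (β := β) = s := by
      refine Sec.ext' ha (Category.id_comp _) fun W' k b v hb e e' f f' => ?_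
      apply hom_eq_of_comp_eq hp.1 (x.map (t.hom k v e'))
      · rw [Sec.map_α, Sec.map_α]
      · rw [t.sec_α_comp hp k b v hb e e']
        simp only [Trip.toObj]
        have hkw : R (k ≫ b₀ ≫ g) := by
          have : k ≫ b₀ ≫ g = b := e
          rw [this]
          exact hb
        refine (congrArg (H.map _ ≫ ·) (hχ' ⟨Over.mk k, hkw⟩)).trans ?_
        have h1 := s.nat (𝟙 W') k (k ≫ b₀ ≫ g) (k ≫ s.u) hkw (congrArg (_ ≫ ·) ha.symm) rfl k b v hb f f'
          (Category.id_comp _) (by rw [Category.id_comp, ha, f]) (by rw [Category.id_comp, f'])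
        refine (Category.assoc _ _ _).symm.trans ((congrArg (· ≫ x.map (ovHom k rfl)) h1).trans ?_)
        rw [Category.assoc, ← Functor.map_comp]
        refine congrArg (_ ≫ x.map ·) (Over.OverMorphism.ext ?_)
        show 𝟙 W' ≫ k = k ≫ eqToHom _
        simp
    have hv : IsVert 𝒳.p χ :=
      ⟨(G.w_obj (ov b₀)).trans (x.w_obj (ov s.u)).symm, by
        rw [hχ]; show eqToHom _ ≫ 𝟙 _ ≫ eqToHom _ = _; rw [Category.id_comp, eqToHom_trans]⟩
    haveI := hv.isIso hp.1
    let o : (FibCat.fp G x).obj := fpMk (ov b₀) (ov s.u) (asIso χ) hv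
    have hot : (tripOf o).toPullback hp β = l := by
      apply pullback_point_ext hp
      · rw [Trip.toPullback_fst]
        exact ht
      · rw [Trip.toPullback_snd]
        exact hb₀
    have hy : yEquiv ((tripOf o).toPullback hp β) = y.sec := by
      exact (congrArg yEquiv hot).trans (yEquiv.apply_symm_apply _)
    exact ⟨o,
      { hom := eltHom (𝟙 _) (by
          refine Eq.trans ?_ hy.symm
          exact map_op_id _ _ rfl _)
        inv := eltHom (𝟙 _) (by
          refine Eq.trans ?_ hy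
          exact map_op_id _ _ rfl _)
        hom_inv_id := elt_hom_ext_p (Category.id_comp _)
        inv_hom_id := elt_hom_ext_p (Category.id_comp _) }, ⟨rfl, rfl⟩⟩

end Groth.StkFppf
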