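import Groth.Agent.StkBase.StackMk
import Groth.Agent.StkBase.SieveRefine

/-!
# Stacks for a finer topology from local effectiveness for a coarser one
-/

set_option autoImplicit false
set_option backward.isDefEq.respectTransparency false
set_option backward.isDefEq.respectTransparency.types false

universe v₂ u₂ v u

open CategoryTheory CategoryTheory.Limits
open Groth.StkBase

namespace Groth.StkFppf

variable {C : Type u} [Category.{v} C] {𝒳 : BasedCategory.{v₂, u₂} C}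

/-- Composition with `g` as a functor between sieves. -/
def sievePush {V U : C} {Q : Sieve V} {R : Sieve U} (g : V ⟶ U)
    (h : ∀ ⦃W : C⦄ (k : W ⟶ V), Q k → R (k ≫ g)) : Stk.sieveCat Q ⥤ᵇ Stk.sieveCat R where
  toFunctor :=
    { obj := fun w => ⟨Over.mk (w.obj.hom ≫ g), h _ w.property⟩
      map := fun {w w'} f => ObjectProperty.homMk (Over.homMk f.hom.left (by
        change f.hom.left ≫ w'.obj.hom ≫ g = w.obj.hom ≫ g
        rw [← Category.assoc, Over.w f.hom]))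
      map_id := fun _ => rfl
      map_comp := fun _ _ => rfl }
  w := rfl

/-- An object over `V` receiving compatibly the values of a functor on a sieve on `V`. -/
structure Cone {V : C} {Q : Sieve V} (K : Stk.sieveCat Q ⥤ᵇ 𝒳) where
  /-- the object -/
  pt : 𝒳.obj
  p_pt : 𝒳.p.obj pt = V
  /-- the comparison arrows -/
  leg : ∀ w, K.obj w ⟶ pt
  map_leg : ∀ w, 𝒳.p.map (leg w) = eqToHom (K.w_obj w) ≫ w.obj.hom ≫ eqToHom p_pt.symm
  nat : ∀ ⦃w w' : (Stk.sieveCat Q).obj⦄ (f : w ⟶ w'), K.map f ≫ leg w' = leg w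

section desc

variable {V : C} {Q : Sieve V} {K : Stk.sieveCat Q ⥤ᵇ 𝒳}

theorem Cone.indep (hX : FibCat.IsFibGrpd 𝒳.p) (A : Cone K) {b : 𝒳.obj}
    (e : ∀ w, K.obj w ⟶ b) (hn : ∀ ⦃w w' : (Stk.sieveCat Q).obj⦄ (f : w ⟶ w'), K.map f ≫ e w' = e w)
    {a' a'' : 𝒳.obj} {w w' : (Stk.sieveCat Q).obj} (k₀ : a'' ⟶ a') (k : a' ⟶ K.obj w)
    (k' : a'' ⟶ K.obj w') (hk : IsVert 𝒳.p k) (hk' : IsVert 𝒳.p k')
    (h : k' ≫ A.leg w' = k₀ ≫ k ≫ A.leg w) : k' ≫ e w' = k₀ ≫ k ≫ e w := by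
  have e₁ : 𝒳.p.obj a'' = w'.obj.left := hk'.obj_eq.trans (K.w_obj _)
  have e₂ : 𝒳.p.obj a' = w.obj.left := hk.obj_eq.trans (K.w_obj _)
  let g : w'.obj.left ⟶ w.obj.left := eqToHom e₁.symm ≫ 𝒳.p.map k₀ ≫ eqToHom e₂
  have hw : g ≫ w.obj.hom = w'.obj.hom := by
    have e' := congrArg 𝒳.p.map h
    simp only [Functor.map_comp, A.map_leg, hk.map_eq, hk'.map_eq] at e'
    rw [← cancel_epi (eqToHom e₁), ← cancel_mono (eqToHom A.p_pt.symm)]
    simp [g] at e' ⊢
    exact e'.symm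
  let t : w' ⟶ w := ObjectProperty.homMk (Over.homMk g hw)
  have hkt : k' ≫ K.map t = k₀ ≫ k := by
    apply hom_eq_of_comp_eq hX (A.leg w)
    · simp [map_map, hk.map_eq, hk'.map_eq, t, g, sieveCat_map_left]
    · rw [Category.assoc, A.nat, h, Category.assoc]
  rw [← hn t, reassoc_of% hkt]

/-- Morphisms out of the point of a cone, over any morphism of the base. -/
theorem Cone.existsUnique_desc (hX : FibCat.IsFibGrpd 𝒳.p) (hQ : Stk.IsPrestackFor Q 𝒳) (A : Cone K)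
    {V' : C} {b : 𝒳.obj} (hb : 𝒳.p.obj b = V') (f : V ⟶ V') (e : ∀ w, K.obj w ⟶ b)
    (he : ∀ w, 𝒳.p.map (e w) = eqToHom (K.w_obj w) ≫ w.obj.hom ≫ f ≫ eqToHom hb.symm)
    (hn : ∀ ⦃w w' : (Stk.sieveCat Q).obj⦄ (f : w ⟶ w'), K.map f ≫ e w' = e w) :
    ∃! χ : A.pt ⟶ b, 𝒳.p.map χ = eqToHom A.p_pt ≫ f ≫ eqToHom hb.symm ∧
      ∀ w, A.leg w ≫ χ = e w := by
  obtain ⟨b', φ, hb', hφ⟩ := exists_lift' hX (x := b) (f ≫ eqToHom hb.symm)
  have hex : ∀ ⦃a' : 𝒳.obj⦄ (l : a' ⟶ A.pt), Q (𝒳.p.map l ≫ eqToHom A.p_pt) →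
      ∃ (w : (Stk.sieveCat Q).obj) (k : a' ⟶ K.obj w), IsVert 𝒳.p k ∧ k ≫ A.leg w = l := by
    intro a' l hl
    let w : (Stk.sieveCat Q).obj := ⟨Over.mk (𝒳.p.map l ≫ eqToHom A.p_pt), hl⟩
    obtain ⟨i, hi, hi'⟩ := exists_vert_iso_of_lifts hX l (A.leg w) (K.w_obj w).symm
      (by rw [A.map_leg]; simp [w])
    exact ⟨w, i.hom, hi, hi'⟩
  choose w k hk hkl using hex
  have hm : ∀ ⦃a' : 𝒳.obj⦄ (l : a' ⟶ A.pt) (hl : Q (𝒳.p.map l ≫ eqToHom A.p_pt)),
      (𝒳.p.map l ≫ eqToHom (A.p_pt.trans hb'.symm)) ≫ 𝒳.p.map φ = 𝒳.p.map (k l hl ≫ e (w l hl)) := by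
    intro a' l hl
    have e' := congrArg 𝒳.p.map (hkl l hl)
    simp only [Functor.map_comp, A.map_leg, (hk l hl).map_eq] at e'
    rw [← e', Functor.map_comp, he, (hk l hl).map_eq, hφ]
    simp
  obtain ⟨χ, hχ, hχ'⟩ := homGlue_of_full hX hQ.1 A.p_pt hb'
    (fun a' l hl => factor hX φ (k l hl ≫ e (w l hl)) _ (hm l hl))
    (fun a' l hl => factor_map hX _ _ _ (hm l hl))
    (fun a' a'' l hl k₀ hkl' => by
      apply hom_eq_of_comp_eq hX φ
      · simp [factor_map]
      · rw [Category.assoc, factor_comp, factor_comp]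
        exact (A.indep hX e hn k₀ _ _ (hk l hl) (hk _ hkl') (by rw [hkl, hkl])).symm)
  refine ⟨χ ≫ φ, ⟨by simp [hχ.map_eq, hφ], fun w₀ => ?_⟩, ?_⟩
  · have hl : Q (𝒳.p.map (A.leg w₀) ≫ eqToHom A.p_pt) := by
      rw [A.map_leg]
      simpa using Q.downward_closed w₀.property (eqToHom (K.w_obj w₀))
    rw [← Category.assoc, hχ' _ hl, factor_comp]
    have := A.indep hX e hn (𝟙 _) (𝟙 (K.obj w₀)) (k _ hl) (isVert_id _) (hk _ hl)
      (by rw [hkl, Category.id_comp, Category.id_comp])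
    rw [this, Category.id_comp, Category.id_comp]
  · rintro χ' ⟨hp, hw⟩
    have hp' : eqToHom (A.p_pt.trans hb'.symm) ≫ 𝒳.p.map φ = 𝒳.p.map χ' := by
      rw [hp, hφ]; simp
    let χ₁ := factor hX φ χ' _ hp'
    suffices χ₁ = χ by rw [← this]; exact (factor_comp hX _ _ _ hp').symm
    refine homExt_of_faithful hX hQ.2 A.p_pt ⟨_, factor_map hX _ _ _ hp'⟩ hχ fun a' l hl => ?_
    apply hom_eq_of_comp_eq hX φ
    · simp [χ₁, factor_map, hχ.map_eq]
    · rw [Category.assoc, Category.assoc, factor_comp, ← Category.assoc l χ, hχ' l hl, factor_comp]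
      conv_lhs => rw [← hkl l hl]
      rw [Category.assoc, hw]

end desc

/-- A prestack for `J` which is a stack for `K ≤ J` and in which every `J`-descent datum is effective
`K`-locally is a stack for `J` at the sieve in question. -/
theorem isStackFor_of_locally_effective {J K : GrothendieckTopology C} (hKJ : K ≤ J)
    (hJ : Stk.IsPrestack J 𝒳) (hK : Stk.IsStack K 𝒳) {U : C} {R : Sieve U} (hR : R ∈ J U)
    (heff : ∀ H : Stk.sieveCat R ⥤ᵇ 𝒳, ∃ R' ∈ K U, ∀ ⦃V : C⦄ (g : V ⟶ U), R' g →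
      Nonempty (Cone (BasedFunctor.comp (sievePush (Q := R.pullback g) g fun _ _ hk => hk) H))) :
    Stk.IsStackFor R 𝒳 := by
  have hX := hJ.1
  refine isStackFor_mk hX (homExt_of_faithful hX (hJ.2 R hR).2) (homGlue_of_full hX (hJ.2 R hR).1)
    fun H => ?_
  obtain ⟨R', hR', hA⟩ := heff H
  let P : ∀ z : (Stk.sieveCat R').obj, Stk.sieveCat (R.pullback z.obj.hom) ⥤ᵇ Stk.sieveCat R :=
    fun z => sievePush z.obj.hom fun _ _ hk => hk
  let A : ∀ z : (Stk.sieveCat R').obj, Cone (BasedFunctor.comp (P z) H) :=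
    fun z => (hA z.obj.hom z.property).some
  have hw : ∀ {z z' : (Stk.sieveCat R').obj} (f : z ⟶ z'),
      f.hom.left ≫ z'.obj.hom = z.obj.hom := fun f => Over.w f.hom
  let shO : ∀ {z z' : (Stk.sieveCat R').obj} (f : z ⟶ z'),
      (Stk.sieveCat (R.pullback z.obj.hom)).obj → (Stk.sieveCat (R.pullback z'.obj.hom)).obj :=
    fun {z z'} f w => ⟨Over.mk (w.obj.hom ≫ f.hom.left), by
      show R ((w.obj.hom ≫ f.hom.left) ≫ z'.obj.hom)
      rw [Category.assoc, hw f]
      exact w.property⟩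
  let shA : ∀ {z z' : (Stk.sieveCat R').obj} (f : z ⟶ z') (w),
      (P z).obj w ⟶ (P z').obj (shO f w) := fun {z z'} f w =>
    ObjectProperty.homMk (Over.homMk (𝟙 _) (by
      change 𝟙 _ ≫ (w.obj.hom ≫ f.hom.left) ≫ z'.obj.hom = w.obj.hom ≫ z.obj.hom
      rw [Category.id_comp, Category.assoc, hw f]))
  have hdesc : ∀ {z z' : (Stk.sieveCat R').obj} (f : z ⟶ z'),
      ∃! χ : (A z).pt ⟶ (A z').pt,
        𝒳.p.map χ = eqToHom (A z).p_pt ≫ f.hom.left ≫ eqToHom (A z').p_pt.symm ∧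
        ∀ w, (A z).leg w ≫ χ = H.map (shA f w) ≫ (A z').leg (shO f w) := by
    intro z z' f
    refine (A z).existsUnique_desc hX (hJ.2 _ (J.pullback_stable _ hR)) (A z').p_pt f.hom.left _
      (fun w => ?_) fun w w' t => ?_
    · rw [Functor.map_comp, (A z').map_leg, map_map]
      simp [shA, shO, P, sievePush, sieveCat_map_left]
      erw [Category.id_comp]
    · let t' : shO f w ⟶ shO f w' := ObjectProperty.homMk (Over.homMk t.hom.left (by
        change t.hom.left ≫ w'.obj.hom ≫ f.hom.left = w.obj.hom ≫ f.hom.left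
        rw [← Category.assoc, Over.w t.hom]))
      have ht : (P z).map t ≫ shA f w' = shA f w ≫ (P z').map t' :=
        ObjectProperty.hom_ext _ (Over.OverMorphism.ext
          ((Category.comp_id _).trans (Category.id_comp _).symm))
      show H.map ((P z).map t) ≫ _ = _
      rw [← Category.assoc, ← Functor.map_comp, ht, Functor.map_comp, Category.assoc]
      exact congrArg (H.map (shA f w) ≫ ·) ((A z').nat t')
  choose m hm hmu using @hdesc
  have hid : ∀ z, m (𝟙 z) = 𝟙 (A z).pt := fun z => by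
    refine (@hmu z z (𝟙 z) (𝟙 (A z).pt) ⟨?_, fun w => ?_⟩).symm
    · refine (𝒳.p.map_id _).trans ?_
      show _ = eqToHom (A z).p_pt ≫ 𝟙 _ ≫ eqToHom (A z).p_pt.symm
      simp
    let t : w ⟶ shO (𝟙 z) w := ObjectProperty.homMk (Over.homMk (𝟙 _)
      ((Category.id_comp _).trans (Category.comp_id _)))
    have ht : (P z).map t = shA (𝟙 z) w := rfl
    rw [Category.comp_id, ← ht]
    exact ((A z).nat t).symm
  have hcomp : ∀ {z z' z'' : (Stk.sieveCat R').obj} (f : z ⟶ z') (f' : z' ⟶ z''),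
      m (f ≫ f') = m f ≫ m f' := by
    intro z z' z'' f f'
    refine (hmu (f ≫ f') _ ⟨?_, fun w => ?_⟩).symm
    · rw [Functor.map_comp, (hm f).1, (hm f').1]
      show _ = eqToHom (A z).p_pt ≫ (f.hom.left ≫ f'.hom.left) ≫ eqToHom (A z'').p_pt.symm
      simp
    · rw [← Category.assoc, (hm f).2, Category.assoc, (hm f').2, ← Category.assoc,
        ← Functor.map_comp]
      let t : shO f' (shO f w) ⟶ shO (f ≫ f') w := ObjectProperty.homMk (Over.homMk (𝟙 _)
        ((Category.id_comp _).trans (Category.assoc _ _ _).symm))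
      have ht : (shA f w ≫ shA f' (shO f w)) ≫ (P z'').map t = shA (f ≫ f') w :=
        ObjectProperty.hom_ext _ (Over.OverMorphism.ext
          ((congrArg (· ≫ 𝟙 _) (Category.id_comp _)).trans (Category.comp_id _)))
      have hn : H.map ((P z'').map t) ≫ (A z'').leg (shO (f ≫ f') w) =
          (A z'').leg (shO f' (shO f w)) := (A z'').nat t
      rw [← hn, ← Category.assoc, ← Functor.map_comp, ht]
  let H' : Stk.sieveCat R' ⥤ᵇ 𝒳 :=
    { toFunctor := { obj := fun z => (A z).pt, map := m, map_id := hid, map_comp := hcomp }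
      w := by
        refine CategoryTheory.Functor.ext (fun x => (A x).p_pt) fun x x' f => ?_
        exact (hm f).1 }
  obtain ⟨a, ha, d, hd, hdn⟩ := objGlue_of_essSurj (haveI : (Stk.resSieve R' 𝒳).IsEquivalence := hK.2 R' hR'
    inferInstance) H'
  -- the arrows on the members of both sieves
  let Z : (Stk.sieveCat (R' ⊓ R)).obj → (Stk.sieveCat R').obj := fun y => ⟨y.obj, y.property.1⟩
  let I : ∀ y : (Stk.sieveCat (R' ⊓ R)).obj, (Stk.sieveCat (R.pullback (Z y).obj.hom)).obj :=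
    fun y => ⟨Over.mk (𝟙 _), by
      show R (𝟙 _ ≫ y.obj.hom)
      rw [Category.id_comp]
      exact y.property.2⟩
  let iA : ∀ y, (sieveLE (inf_le_right : R' ⊓ R ≤ R)).obj y ⟶ (P (Z y)).obj (I y) := fun y =>
    ObjectProperty.homMk (Over.homMk (𝟙 _) (by
      change 𝟙 _ ≫ 𝟙 _ ≫ y.obj.hom = y.obj.hom
      rw [Category.id_comp, Category.id_comp]))
  let E : ∀ y, H.obj ((sieveLE (inf_le_right : R' ⊓ R ≤ R)).obj y) ⟶ a := fun y =>
    H.map (iA y) ≫ (A (Z y)).leg (I y) ≫ d (Z y)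
  have hE : ∀ y, 𝒳.p.map (E y) = eqToHom (H.w_obj _) ≫ y.obj.hom ≫ eqToHom ha.symm := fun y => by
    simp only [E, Functor.map_comp, hd, (A (Z y)).map_leg, map_map]
    simp [iA, I, Z, P, H', sieveLE, sievePush, sieveCat_map_left]
    erw [Category.id_comp, Category.id_comp]
  have hEn : ∀ ⦃y y' : (Stk.sieveCat (R' ⊓ R)).obj⦄ (f : y ⟶ y'),
      H.map ((sieveLE (inf_le_right : R' ⊓ R ≤ R)).map f) ≫ E y' = E y := by
    intro y y' f
    let f' : Z y ⟶ Z y' := ObjectProperty.homMk f.hom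
    let t : shO f' (I y) ⟶ I y' := ObjectProperty.homMk (Over.homMk f.hom.left
      ((Category.comp_id _).trans (Category.id_comp _).symm))
    have ht : (sieveLE (inf_le_right : R' ⊓ R ≤ R)).map f ≫ iA y' =
        iA y ≫ shA f' (I y) ≫ (P (Z y')).map t :=
      ObjectProperty.hom_ext _ (Over.OverMorphism.ext ((Category.comp_id _).trans
        ((Category.id_comp _).trans (Category.id_comp _)).symm))
    have hn : H.map ((P (Z y')).map t) ≫ (A (Z y')).leg (I y') = (A (Z y')).leg (shO f' (I y)) :=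
      (A (Z y')).nat t
    have h2 : (A (Z y)).leg (I y) ≫ m f' ≫ d (Z y') = (A (Z y)).leg (I y) ≫ d (Z y) :=
      congrArg ((A (Z y)).leg (I y) ≫ ·) (hdn f')
    simp only [E]
    rw [← h2, reassoc_of% ((hm f').2 (I y)), ← Category.assoc, ← Functor.map_comp, ht,
      Functor.map_comp, Functor.map_comp, Category.assoc, Category.assoc, reassoc_of% hn]
  have hloc : ∀ z : (Stk.sieveCat R).obj, ∃! c : H.obj z ⟶ a,
      𝒳.p.map c = eqToHom (H.w_obj z) ≫ z.obj.hom ≫ eqToHom ha.symm ∧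
      ∀ (y : (Stk.sieveCat (R' ⊓ R)).obj) (q : (sieveLE inf_le_right).obj y ⟶ z),
        H.map q ≫ c = E y := by
    intro z
    let Q := R'.pullback z.obj.hom
    let p₁ : Stk.sieveCat Q ⥤ᵇ Stk.sieveCat (R' ⊓ R) :=
      sievePush z.obj.hom fun _ k hk => ⟨hk, R.downward_closed z.property k⟩
    let q : ∀ w, (sieveLE (inf_le_right : R' ⊓ R ≤ R)).obj (p₁.obj w) ⟶ z := fun w =>
      ObjectProperty.homMk (Over.homMk w.obj.hom rfl)
    let B : Cone (BasedFunctor.comp (BasedFunctor.comp p₁ (sieveLE inf_le_right)) H) :=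
      { pt := H.obj z
        p_pt := H.w_obj z
        leg := fun w => H.map (q w)
        map_leg := fun w => map_map H (q w)
        nat := fun w w' f => (H.toFunctor.map_comp _ _).symm.trans (congrArg H.map
          (ObjectProperty.hom_ext _ (Over.OverMorphism.ext (Over.w f.hom)))) }
    obtain ⟨c, ⟨hc₁, hc₂⟩, hcu⟩ := B.existsUnique_desc hX
      (hJ.2 _ (hKJ _ (K.pullback_stable _ hR'))) ha z.obj.hom (fun w => E (p₁.obj w))
      (fun w => (hE (p₁.obj w)).trans (by simp [p₁, sievePush])) fun w w' f => hEn (p₁.map f)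
    refine ⟨c, ⟨hc₁, fun y q' => ?_⟩, fun c' ⟨h₁, h₂⟩ => hcu c' ⟨h₁, fun w => h₂ _ (q w)⟩⟩
    have hq' : q'.hom.left ≫ z.obj.hom = y.obj.hom := Over.w q'.hom
    let w : (Stk.sieveCat Q).obj := ⟨Over.mk q'.hom.left, by
      show R' (q'.hom.left ≫ z.obj.hom)
      rw [hq']
      exact y.property.1⟩
    let s : y ⟶ p₁.obj w := ObjectProperty.homMk (Over.homMk (𝟙 _) ((Category.id_comp _).trans hq'))
    have hs : (sieveLE (inf_le_right : R' ⊓ R ≤ R)).map s ≫ q w = q' :=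
      ObjectProperty.hom_ext _ (Over.OverMorphism.ext (Category.id_comp _))
    rw [← hs, Functor.map_comp, Category.assoc]
    exact (congrArg (H.map _ ≫ ·) (hc₂ w)).trans (hEn s)
  choose c hc hcu using hloc
  refine ⟨a, ha, c, fun z => (hc z).1, fun z z' f => hcu z _ ⟨?_, fun y q => ?_⟩⟩
  · rw [Functor.map_comp, (hc z').1, map_map]
    simp [sieveCat_map_left, Over.w f.hom]
  · rw [← Category.assoc, ← Functor.map_comp]
    exact (hc z').2 y (q ≫ f)

end Groth.StkFppf
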